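import Groth.Agent.PunctCoh79.Sections
import Groth.Agent.LC.CohLoc
import Groth.Agent.LC.CohAcyclic
import Groth.Prelude.Def_Wider

/-!
# `M~` is flasque for an injective module over a Noetherian ring
-/

universe u

open CategoryTheory CategoryTheory.Limits AlgebraicGeometry TopologicalSpace Opposite

namespace Groth.Agent.PunctCoh79

variable {R : CommRingCat.{u}} [IsNoetherianRing R]

theorem hasDiv_torsionSub {M : Type u} [AddCommGroup M] [Module R M] (hM : LC.HasDiv R M) (g : R) :
    LC.HasDiv R (DRing.torsionSub (Ideal.span {g}) M) := by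
  intro a b x hx m
  obtain ⟨n, hn⟩ := x.2
  obtain ⟨k, hk⟩ := hx
  have hx' : (x : M) ∈ DRing.torsionSub (a ⊔ Ideal.span {g}) M :=
    LC.mem_torsionSub_sup_span g a ⟨k, fun c hc => congrArg Subtype.val (hk c hc)⟩
      (k := n) (hn _ (Ideal.pow_mem_pow (Ideal.mem_span_singleton_self g) n))
  obtain ⟨w, ⟨N, hN⟩, t, ht⟩ := hM (a ⊔ Ideal.span {g}) b x hx' m
  refine ⟨⟨w, N, fun c hc => hN c (Ideal.pow_right_mono le_sup_right N hc)⟩,
    ⟨N, fun c hc => Subtype.ext (hN c (Ideal.pow_right_mono le_sup_left N hc))⟩, t, Subtype.ext ht⟩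

theorem secMap_surjective_basicOpen {M : ModuleCat.{u} R} (hM : LC.HasDiv R M) (g : R) :
    Function.Surjective (secMap M (bO g)) := by
  intro s
  obtain ⟨m, n, h⟩ := exists_secMap_eq M g s
  obtain ⟨w, -, t, ht⟩ := hM (⊥ : Ideal R) g m ⟨1, fun c hc => by
    rw [pow_one, Submodule.mem_bot] at hc; rw [hc, zero_smul]⟩ n
  refine ⟨w, pow_smul_cancel _ le_rfl (t + n) ?_⟩
  rw [← map_smul]
  refine (congrArg _ ht).trans ?_
  rw [map_smul, ← h, smul_smul, ← pow_add]

theorem secMap_surjective_finset (s : Finset R) : ∀ (M : ModuleCat.{u} R), LC.HasDiv R M →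
    ∀ (U : (Spec R).Opens), U = s.sup bO →
      Function.Surjective (secMap M U) := by
  classical
  induction s using Finset.induction with
  | empty =>
    intro M _ U hU z
    refine ⟨0, ?_⟩
    refine QCoh.eq_zero_of_locally (M := tilde M) U _ ?_ |>.trans ?_
    · intro p hp
      rw [hU, Finset.sup_empty] at hp
      exact hp.elim
    · symm
      refine QCoh.eq_zero_of_locally (M := tilde M) U _ ?_
      intro p hp
      rw [hU, Finset.sup_empty] at hp
      exact hp.elim
  | insert g s _ ih =>
    intro M hM U hU z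
    let V : (Spec R).Opens := s.sup bO
    have hg : bO g ≤ U := by rw [hU, Finset.sup_insert]; exact le_sup_left
    have hV : V ≤ U := by rw [hU, Finset.sup_insert]; exact le_sup_right
    obtain ⟨w, hw⟩ := secMap_surjective_basicOpen hM g (secRes _ hg z)
    let z' := z - secMap M U w
    have hz' : secRes _ hg z' = 0 := by rw [map_sub, secRes_secMap, hw, sub_self]
    let N : ModuleCat.{u} R := ModuleCat.of R (DRing.torsionSub (Ideal.span {g}) M)
    let ι : N ⟶ M := ModuleCat.ofHom (DRing.torsionSub (Ideal.span {g}) M).subtype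
    have : Mono ι := (ModuleCat.mono_iff_injective _).2 (Submodule.injective_subtype _)
    obtain ⟨y, hy⟩ : secRes _ hV z' ∈ LinearMap.range (secTilde ι V) := by
      refine mem_range_of_locally _ _ fun p hp => ?_
      obtain ⟨h, hph, hhV⟩ := exists_basicOpen_le hp
      refine ⟨_, hhV, hph, ?_⟩
      rw [secRes_secRes]
      obtain ⟨m, k, hk⟩ := exists_secMap_eq M h (secRes _ (hhV.trans hV) z')
      have hgh : (bO (g * h) : (Spec R).Opens) ≤ bO h :=
        bO_mul_le_right g h
      have h0 : secMap M (bO (g * h)) m = 0 := by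
        rw [← secRes_secMap M hgh, ← hk, map_smul, secRes_secRes,
          ← secRes_secRes _ hg (bO_mul_le_left g h), hz', map_zero, smul_zero]
      obtain ⟨n, hn⟩ := (secMap_eq_zero_iff M (g * h) m).1 h0
      have hmem : h ^ n • m ∈ DRing.torsionSub (Ideal.span {g}) M := ⟨n, fun c hc => by
        rw [Ideal.span_singleton_pow, Ideal.mem_span_singleton'] at hc
        obtain ⟨d, rfl⟩ := hc
        rw [smul_smul, mul_assoc, ← mul_pow, mul_smul, hn, smul_zero]⟩
      obtain ⟨t, ht⟩ := exists_pow_smul_eq (tilde N) (g := h) le_rfl (k + n)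
        (secMap N _ ⟨h ^ n • m, hmem⟩)
      refine ⟨t, pow_smul_cancel _ le_rfl (k + n) ?_⟩
      rw [← map_smul, ht, secTilde_secMap, add_comm, pow_add, mul_smul, hk, ← map_smul]
      rfl
    obtain ⟨n, rfl⟩ := ih N (hasDiv_torsionSub hM g) V rfl y
    rw [secTilde_secMap] at hy
    refine ⟨w + ι.hom n, ?_⟩
    have : z' = secMap M U (ι.hom n) := by
      refine sec_ext _ (fun b : Bool => cond b (bO g) V) (fun b => ?_) (fun p hp => ?_) fun b => ?_
      · cases b
        · exact hV
        · exact hg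
      · rw [hU, Finset.sup_insert] at hp
        rcases hp with hp | hp
        · exact ⟨true, hp⟩
        · exact ⟨false, hp⟩
      · cases b
        · show secRes _ hV z' = secRes _ hV _
          rw [secRes_secMap, hy]
        · show secRes _ hg z' = secRes _ hg _
          rw [secRes_secMap, hz']
          obtain ⟨k, hk⟩ := n.2
          exact ((secMap_eq_zero_iff M g _).2
            ⟨k, hk _ (Ideal.pow_mem_pow (Ideal.mem_span_singleton_self g) k)⟩).symm
    rw [map_add, ← this]
    exact add_sub_cancel _ _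

theorem exists_finset_sup (U : (Spec R).Opens) :
    ∃ s : Finset R, U = s.sup bO := by
  classical
  obtain ⟨t, ht⟩ := (PrimeSpectrum.isClosed_iff_zeroLocus_ideal _).1 U.isOpen.isClosed_compl
  obtain ⟨s, rfl⟩ := IsNoetherian.noetherian (R := R) t
  refine ⟨s, Opens.ext (Set.ext fun (p : PrimeSpectrum R) => ?_)⟩
  have h := Set.ext_iff.1 ht p
  have h2 : (p ∈ (U : Set (Spec R))) ↔ p ∉ PrimeSpectrum.zeroLocus (Submodule.span R (s : Set R) : Set R) :=
    ⟨fun hp hz => h.2 hz hp, fun hz => by_contra fun hp => hz (h.1 hp)⟩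
  refine h2.trans ?_
  rw [Finset.sup_eq_iSup]
  simp only [PrimeSpectrum.mem_zeroLocus, SetLike.coe_subset_coe, Submodule.span_le, Set.not_subset]
  refine Iff.trans ?_ Opens.mem_iSup.symm
  exact ⟨fun ⟨a, ha, hp⟩ => ⟨a, Opens.mem_iSup.2 ⟨ha, hp⟩⟩,
    fun ⟨a, hap⟩ => let ⟨ha, hp⟩ := Opens.mem_iSup.1 hap; ⟨a, ha, hp⟩⟩

/-- `M → Γ(U, M~)` is surjective for every open `U` when `M` is injective. -/
theorem secMap_surjective_of_injective (M : ModuleCat.{u} R) [Injective M]
    (U : (Spec R).Opens) : Function.Surjective (secMap M U) := by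
  have : Module.Injective R M := Module.injective_module_of_injective_object R M
  obtain ⟨s, hs⟩ := exists_finset_sup U
  exact secMap_surjective_finset s M (LC.hasDiv_of_injective M) U hs

end Groth.Agent.PunctCoh79
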