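import Groth.Agent.PunctCoh79.Flasque
import Mathlib.RingTheory.Filtration
import Mathlib.RingTheory.Spectrum.Prime.Noetherian

/-!
# Formal sections of `M~` near `V(I)`, and short exact sequences
-/

universe u

open CategoryTheory CategoryTheory.Limits AlgebraicGeometry TopologicalSpace Opposite

namespace Groth.Agent.PunctCoh79

variable {R : CommRingCat.{u}}

theorem secTilde_comp {M N P : ModuleCat.{u} R} (φ : M ⟶ N) (ψ : N ⟶ P) (U : (Spec R).Opens)
    (s : Γ(tilde M, U)) : secTilde (φ ≫ ψ) U s = secTilde ψ U (secTilde φ U s) := by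
  unfold secTilde
  rw [tilde.map_comp, Functor.map_comp]
  rfl

theorem secTilde_id {M : ModuleCat.{u} R} (U : (Spec R).Opens) (s : Γ(tilde M, U)) :
    secTilde (𝟙 M) U s = s := by
  apply secTilde_injective (𝟙 M) U
  rw [← secTilde_comp, Category.id_comp]

theorem secTilde_zero {M N : ModuleCat.{u} R} (U : (Spec R).Opens) (s : Γ(tilde M, U)) :
    secTilde (0 : M ⟶ N) U s = 0 := by
  refine QCoh.eq_zero_of_locally U _ fun p hp => ?_
  obtain ⟨h, hph, hhU⟩ := exists_basicOpen_le hp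
  refine ⟨_, homOfLE hhU, hph, ?_⟩
  change secRes _ hhU _ = 0
  obtain ⟨m, k, hk⟩ := exists_secMap_eq M h (secRes _ hhU s)
  refine pow_smul_cancel _ le_rfl k ?_
  rw [secRes_secTilde, ← map_smul, hk, secTilde_secMap, smul_zero]
  exact map_zero _

theorem exists_cover {W : (Spec R).Opens} [IsNoetherianRing R] (P : R → Prop)
    (hP : ∀ p ∈ W, ∃ h, P h ∧ p ∈ bO h) :
    ∃ s : Finset R, (∀ h ∈ s, P h) ∧ ∀ p ∈ W, ∃ h ∈ s, p ∈ bO h := by
  classical
  have hc : IsCompact (X := PrimeSpectrum R) (W : Set (Spec R)) :=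
    TopologicalSpace.NoetherianSpace.isCompact _
  obtain ⟨t, ht⟩ := hc.elim_finite_subcover
    (fun h : {h // P h} => (PrimeSpectrum.basicOpen h.1 : Set (PrimeSpectrum R)))
    (fun h => (PrimeSpectrum.basicOpen h.1).isOpen)
    (fun p hp => let ⟨h, hh, hph⟩ := hP p hp; Set.mem_iUnion.2 ⟨⟨h, hh⟩, hph⟩)
  refine ⟨t.image Subtype.val, fun h hh => ?_, fun p hp => ?_⟩
  · obtain ⟨h', -, rfl⟩ := Finset.mem_image.1 hh
    exact h'.2
  · obtain ⟨h, hh, hp'⟩ := Set.mem_iUnion₂.1 (ht hp)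
    exact ⟨h.1, Finset.mem_image_of_mem _ hh, hp'⟩

/-- A section vanishing on `W ∩ D(h)` is killed by a power of `h`. -/
theorem exists_pow_smul_eq_zero [IsNoetherianRing R] {M : ModuleCat.{u} R} {W : (Spec R).Opens} {h : R}
    (z : Γ(tilde M, W)) (hz : secRes (tilde M) (inf_le_left : W ⊓ bO h ≤ W) z = 0) :
    ∃ k : ℕ, h ^ k • z = 0 := by
  classical
  obtain ⟨s, hs, hcov⟩ := exists_cover (fun a : R => bO a ≤ W) fun p hp => by
    obtain ⟨a, hpa, haW⟩ := exists_basicOpen_le hp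
    exact ⟨a, haW, hpa⟩
  have hk : ∀ a : s, ∃ k : ℕ, h ^ k • secRes (tilde M) (hs a.1 a.2) z = 0 := by
    intro a
    obtain ⟨m, l, hml⟩ := exists_secMap_eq M a.1 (secRes (tilde M) (hs a.1 a.2) z)
    have hle : (bO (h * a.1) : (Spec R).Opens) ≤ W ⊓ bO h :=
      le_inf ((bO_mul_le_right h a.1).trans (hs a.1 a.2))
        (bO_mul_le_left h a.1)
    have h0 : secMap M (bO (h * a.1)) m = 0 := by
      rw [← secRes_secMap M (bO_mul_le_right h a.1), ← hml, map_smul, secRes_secRes,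
        ← secRes_secRes _ inf_le_left hle, hz, map_zero, smul_zero]
    obtain ⟨n, hn⟩ := (secMap_eq_zero_iff M _ m).1 h0
    refine ⟨n, pow_smul_cancel _ le_rfl (n + l) ?_⟩
    rw [smul_zero, smul_smul, add_comm n l, pow_add, mul_assoc, ← mul_pow, mul_comm a.1 h,
      mul_comm, mul_smul, hml, ← map_smul, hn, map_zero]
  choose k hk using hk
  refine ⟨s.attach.sup k, sec_ext _ (fun a : s => bO a.1) (fun a => hs a.1 a.2)
    (fun p hp => let ⟨a, ha, hpa⟩ := hcov p hp; ⟨⟨a, ha⟩, hpa⟩) fun a => ?_⟩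
  rw [map_smul, map_zero, ← Nat.sub_add_cancel (Finset.le_sup (f := k) (Finset.mem_attach s a)), pow_add,
    mul_smul, hk, smul_zero]

/-- A power of `h` times a section over `W ⊇ D(h)` comes from the module. -/
theorem exists_pow_smul_eq_secMap [IsNoetherianRing R] {M : ModuleCat.{u} R} {W : (Spec R).Opens} {h : R}
    (hW : bO h ≤ W) (x : Γ(tilde M, W)) :
    ∃ (k : ℕ) (m : M), h ^ (k + 1) • x = secMap M W m := by
  obtain ⟨m, l, hml⟩ := exists_secMap_eq M h (secRes (tilde M) hW x)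
  obtain ⟨k, hk⟩ := exists_pow_smul_eq_zero (h := h) (h ^ l • x - secMap M W m) (by
    have : secRes (tilde M) hW (h ^ l • x - secMap M W m) = 0 := by
      rw [map_sub, map_smul, secRes_secMap, hml, sub_self]
    rw [← secRes_secRes _ hW inf_le_right, this, map_zero])
  refine ⟨k + l, h ^ (k + 1) • m, ?_⟩
  rw [map_smul, ← sub_eq_zero, show k + l + 1 = (k + 1) + l by omega, pow_add, mul_smul, ← smul_sub,
    pow_succ', mul_smul, hk, smul_zero]

/-- A map induced on quotients. -/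
noncomputable def qInd {M N : ModuleCat.{u} R} (φ : M ⟶ N) (p : Submodule R M) (q : Submodule R N)
    (h : p ≤ q.comap φ.hom) : ModuleCat.of R (M ⧸ p) ⟶ ModuleCat.of R (N ⧸ q) :=
  ModuleCat.ofHom (p.mapQ q φ.hom h)

theorem mkQ_qInd {M N : ModuleCat.{u} R} (φ : M ⟶ N) (p : Submodule R M) (q : Submodule R N)
    (h : p ≤ q.comap φ.hom) :
    ModuleCat.ofHom p.mkQ ≫ qInd φ p q h = φ ≫ ModuleCat.ofHom q.mkQ := rfl

theorem qInd_qInd {M N P : ModuleCat.{u} R} (φ : M ⟶ N) (ψ : N ⟶ P) (χ : M ⟶ P) (e : φ ≫ ψ = χ)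
    (p : Submodule R M) (q : Submodule R N) (r : Submodule R P) (h : p ≤ q.comap φ.hom)
    (h' : q ≤ r.comap ψ.hom) (h'' : p ≤ r.comap χ.hom) :
    qInd φ p q h ≫ qInd ψ q r h' = qInd χ p r h'' := by
  subst e
  exact ModuleCat.hom_ext (Submodule.linearMap_qext _ rfl)

theorem qInd_square {M N N' P : ModuleCat.{u} R} (φ : M ⟶ N) (ψ : N ⟶ P) (φ' : M ⟶ N') (ψ' : N' ⟶ P)
    (e : φ ≫ ψ = φ' ≫ ψ') (p : Submodule R M) (q : Submodule R N) (q' : Submodule R N') (r : Submodule R P)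
    (h : p ≤ q.comap φ.hom) (h' : q ≤ r.comap ψ.hom) (k : p ≤ q'.comap φ'.hom) (k' : q' ≤ r.comap ψ'.hom) :
    qInd φ p q h ≫ qInd ψ q r h' = qInd φ' p q' k ≫ qInd ψ' q' r k' := by
  refine ModuleCat.hom_ext (Submodule.linearMap_qext _ (LinearMap.ext fun x => ?_))
  show r.mkQ ((φ ≫ ψ).hom x) = r.mkQ ((φ' ≫ ψ').hom x)
  rw [e]

theorem qInd_zero {M N P : ModuleCat.{u} R} (φ : M ⟶ N) (ψ : N ⟶ P) (e : φ ≫ ψ = 0)
    (p : Submodule R M) (q : Submodule R N) (r : Submodule R P) (h : p ≤ q.comap φ.hom)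
    (h' : q ≤ r.comap ψ.hom) : qInd φ p q h ≫ qInd ψ q r h' = 0 := by
  refine ModuleCat.hom_ext (Submodule.linearMap_qext _ (LinearMap.ext fun x => ?_))
  show r.mkQ ((φ ≫ ψ).hom x) = 0
  rw [e]
  exact map_zero _

theorem qInd_id {M : ModuleCat.{u} R} (p : Submodule R M) (h : p ≤ p.comap (𝟙 M : M ⟶ M).hom) :
    qInd (𝟙 M) p p h = 𝟙 _ :=
  ModuleCat.hom_ext (Submodule.linearMap_qext _ rfl)

variable (I : Ideal R)

/-- `M/I^(n+1)M` -/
noncomputable abbrev qM (M : ModuleCat.{u} R) (n : ℕ) : ModuleCat.{u} R :=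
  ModuleCat.of R (M ⧸ (I ^ (n + 1) • (⊤ : Submodule R M)))

/-- the projection -/
noncomputable abbrev qπ (M : ModuleCat.{u} R) (n : ℕ) : M ⟶ qM I M n :=
  ModuleCat.ofHom (I ^ (n + 1) • (⊤ : Submodule R M)).mkQ

/-- the transition -/
noncomputable abbrev qT (M : ModuleCat.{u} R) {n N : ℕ} (h : n ≤ N) : qM I M N ⟶ qM I M n :=
  qInd (𝟙 M) _ _ (Submodule.smul_mono_left (Ideal.pow_le_pow_right (Nat.add_le_add_right h 1)))

theorem qπ_qT (M : ModuleCat.{u} R) {n N : ℕ} (h : n ≤ N) : qπ I M N ≫ qT I M h = qπ I M n :=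
  (mkQ_qInd _ _ _ _).trans (Category.id_comp _)

/-- the map on quotients -/
noncomputable abbrev qMap {M N : ModuleCat.{u} R} (φ : M ⟶ N) (n : ℕ) : qM I M n ⟶ qM I N n :=
  qInd φ _ _ (Submodule.map_le_iff_le_comap.1 (by
    rw [Submodule.map_smul'']; exact smul_mono_right _ le_top))

theorem qπ_qMap {M N : ModuleCat.{u} R} (φ : M ⟶ N) (n : ℕ) : qπ I M n ≫ qMap I φ n = φ ≫ qπ I N n :=
  mkQ_qInd _ _ _ _

theorem qT_qMap {M N : ModuleCat.{u} R} (φ : M ⟶ N) {n m : ℕ} (h : n ≤ m) :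
    qT I M h ≫ qMap I φ n = qMap I φ m ≫ qT I N h :=
  qInd_square _ _ _ _ ((Category.id_comp _).trans (Category.comp_id _).symm) _ _ _ _ _ _ _ _

/-- opens of `U` containing `U ∩ V(I)` -/
def Adm (U V : (Spec R).Opens) : Prop :=
  V ≤ U ∧ ∀ p : Spec R, p ∈ U → p ∈ PrimeSpectrum.zeroLocus (R := R) I → p ∈ V

variable {I}

theorem Adm.refl (U : (Spec R).Opens) : Adm I U U := ⟨le_rfl, fun _ h _ => h⟩

theorem Adm.inf_finset {U V : (Spec R).Opens} {ι : Type*} (hV : Adm I U V) (s : Finset ι)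
    (W : ι → (Spec R).Opens) (hW : ∀ i ∈ s, Adm I U (W i)) : Adm I U (V ⊓ s.inf W) := by
  classical
  induction s using Finset.induction with
  | empty => rw [Finset.inf_empty, inf_top_eq]; exact hV
  | insert a s _ ih =>
    rw [Finset.inf_insert, inf_left_comm]
    have h1 := hW a (Finset.mem_insert_self a s)
    have h2 := ih fun i hi => hW i (Finset.mem_insert_of_mem hi)
    exact ⟨inf_le_left.trans h1.1, fun p hp hp' => ⟨h1.2 p hp hp', h2.2 p hp hp'⟩⟩

theorem Adm.inf {U V V' : (Spec R).Opens} (h : Adm I U V) (h' : Adm I U V') : Adm I U (V ⊓ V') :=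
  ⟨inf_le_left.trans h.1, fun p hp hp' => ⟨h.2 p hp hp', h'.2 p hp hp'⟩⟩

/-- Sections of a module killed by a power of `I` are determined near `V(I)`. -/
theorem eq_zero_of_adm (M : ModuleCat.{u} R) {U V : (Spec R).Opens} (hV : Adm I U V) {n : ℕ}
    (z : Γ(tilde (qM I M n), U)) (hz : secRes _ hV.1 z = 0) : z = 0 := by
  refine QCoh.eq_zero_of_locally U z fun p hp => ?_
  obtain ⟨a, hpa, haU⟩ := exists_basicOpen_le hp
  by_cases hpV : p ∈ V
  · refine ⟨V, homOfLE hV.1, hpV, ?_⟩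
    exact hz
  · obtain ⟨b, hb, hbp⟩ := Set.not_subset.1 (fun hI => hpV (hV.2 p hp ((PrimeSpectrum.mem_zeroLocus _ _).2 hI)))
    refine ⟨bO (a * b), homOfLE ((bO_mul_le_left a b).trans haU),
      by rw [bO_mul]; exact ⟨hpa, hbp⟩, ?_⟩
    change secRes _ ((bO_mul_le_left a b).trans haU) z = 0
    obtain ⟨m, l, hml⟩ := exists_secMap_eq (qM I M n) (a * b)
      (secRes _ ((bO_mul_le_left a b).trans haU) z)
    refine pow_smul_cancel _ le_rfl (l + (n + 1)) ?_
    rw [add_comm, pow_add, mul_smul, hml, ← map_smul, smul_zero]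
    obtain ⟨m, rfl⟩ := Submodule.mkQ_surjective _ m
    rw [← map_smul]
    refine (congrArg _ ((Submodule.Quotient.mk_eq_zero _).2 ?_)).trans (map_zero _)
    exact Submodule.smul_mem_smul (Ideal.pow_mem_pow (Ideal.mul_mem_left _ a hb) _) Submodule.mem_top

variable (I)

/-- "`colim_V Γ(V, M~) → lim_n Γ(U, (M/I^(n+1)M)~)` is bijective", elementwise. -/
def ColimBij (M : ModuleCat.{u} R) (U : (Spec R).Opens) : Prop :=
  (∀ (V : (Spec R).Opens) (_ : Adm I U V) (x : Γ(tilde M, V)), (∀ n, secTilde (qπ I M n) V x = 0) →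
      ∃ (V' : (Spec R).Opens) (h : Adm I U V' ∧ V' ≤ V), secRes _ h.2 x = 0) ∧
  ∀ y : ∀ n, Γ(tilde (qM I M n), U),
    (∀ n, secTilde (qT I M (Nat.le_add_right n 1)) U (y (n + 1)) = y n) →
      ∃ (V : (Spec R).Opens) (hV : Adm I U V) (x : Γ(tilde M, V)),
        ∀ n, secRes _ hV.1 (y n) = secTilde (qπ I M n) V x

theorem qT_trans (M : ModuleCat.{u} R) {n m N : ℕ} (h : n ≤ m) (h' : m ≤ N) :
    qT I M h' ≫ qT I M h = qT I M (h.trans h') :=
  qInd_qInd _ _ _ (Category.id_comp _) _ _ _ _ _ _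

theorem qT_refl (M : ModuleCat.{u} R) (n : ℕ) : qT I M (le_refl n) = 𝟙 _ :=
  qInd_id _ _

theorem compat_le {M : ModuleCat.{u} R} {U : (Spec R).Opens} (y : ∀ n, Γ(tilde (qM I M n), U))
    (hy : ∀ n, secTilde (qT I M (Nat.le_add_right n 1)) U (y (n + 1)) = y n) {n N : ℕ} (h : n ≤ N) :
    secTilde (qT I M h) U (y N) = y n := by
  induction N, h using Nat.le_induction with
  | base => rw [qT_refl, secTilde_id]
  | succ N hN ih =>
    rw [← qT_trans I M hN (Nat.le_add_right N 1), secTilde_comp, hy, ih]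

section SES

variable [IsNoetherianRing R] {M' M M'' : ModuleCat.{u} R} (f : M' ⟶ M) (g : M ⟶ M'')

/-- `M'/f⁻¹(I^(N+1)M)` -/
noncomputable abbrev qIm (N : ℕ) : ModuleCat.{u} R :=
  ModuleCat.of R (M' ⧸ (I ^ (N + 1) • (⊤ : Submodule R M)).comap f.hom)

/-- `M'/I^(N+1)M' → M'/f⁻¹(I^(N+1)M)` -/
noncomputable abbrev qImP (N : ℕ) : qM I M' N ⟶ qIm I f N :=
  qInd (𝟙 M') _ _ (show _ ≤ (I ^ (N + 1) • (⊤ : Submodule R M)).comap f.hom by
    rw [← Submodule.map_le_iff_le_comap, Submodule.map_smul'']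
    exact smul_mono_right _ le_top)

/-- `M'/f⁻¹(I^(N+1)M) → M/I^(N+1)M` -/
noncomputable abbrev qImJ (N : ℕ) : qIm I f N ⟶ qM I M N :=
  qInd f _ _ le_rfl

theorem qImJ_injective (N : ℕ) : Function.Injective (qImJ I f N).hom := by
  rw [← LinearMap.ker_eq_bot]
  show LinearMap.ker (Submodule.mapQ ((I ^ (N + 1) • (⊤ : Submodule R M)).comap f.hom) (I ^ (N + 1) • (⊤ : Submodule R M)) f.hom le_rfl) = ⊥
  exact Submodule.ker_liftQ_eq_bot _ _ _ (by rw [LinearMap.ker_comp, Submodule.ker_mkQ])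

theorem qImP_qImJ (N : ℕ) : qImP I f N ≫ qImJ I f N = qMap I f N :=
  qInd_qInd _ _ _ (Category.id_comp _) _ _ _ _ _ _

theorem exists_rho (hf : Function.Injective f.hom) [Module.Finite R M] :
    ∃ c : ℕ, ∀ n, ∃ ρ : qIm I f (n + c) ⟶ qM I M' n,
      qImP I f (n + c) ≫ ρ = qT I M' (Nat.le_add_right n c) ∧
        ρ ≫ qMap I f n = qImJ I f (n + c) ≫ qT I M (Nat.le_add_right n c) := by
  obtain ⟨c, hc⟩ := Ideal.exists_pow_inf_eq_pow_smul I (LinearMap.range f.hom)
  refine ⟨c, fun n => ⟨qInd (𝟙 M') _ _ ?_, qInd_qInd _ _ _ (Category.id_comp _) _ _ _ _ _ _,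
    qInd_square _ _ _ _ ((Category.id_comp _).trans (Category.comp_id _).symm) _ _ _ _ _ _ _ _⟩⟩
  intro x hx
  have h1 : f.hom x ∈ I ^ (n + c + 1) • (⊤ : Submodule R M) ⊓ LinearMap.range f.hom :=
    ⟨hx, LinearMap.mem_range_self _ x⟩
  rw [hc _ (by omega), show n + c + 1 - c = n + 1 by omega] at h1
  have h2 := smul_mono_right (I ^ (n + 1)) (inf_le_right : I ^ c • (⊤ : Submodule R M) ⊓ LinearMap.range f.hom ≤ _) h1
  rw [LinearMap.range_eq_map, ← Submodule.map_smul''] at h2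
  obtain ⟨x', hx', e⟩ := h2
  rwa [hf e] at hx'

theorem sec_exists_preimage (hf : Function.Injective f.hom) (hfg : Function.Exact f.hom g.hom) {V : (Spec R).Opens}
    (x : Γ(tilde M, V)) (hx : secTilde g V x = 0) : ∃ x', secTilde f V x' = x := by
  have := (ModuleCat.mono_iff_injective f).2 hf
  refine mem_range_of_locally f x fun p hp => ?_
  obtain ⟨h, hph, hhV⟩ := exists_basicOpen_le hp
  refine ⟨_, hhV, hph, ?_⟩
  obtain ⟨m, k, hk⟩ := exists_secMap_eq M h (secRes _ hhV x)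
  have h0 : secMap M'' (bO h) (g.hom m) = 0 := by
    rw [← secTilde_secMap g _ m, ← hk, map_smul, ← secRes_secTilde, hx, map_zero, smul_zero]
  obtain ⟨n, hn⟩ := (secMap_eq_zero_iff M'' h _).1 h0
  rw [← map_smul] at hn
  obtain ⟨m', hm'⟩ := (hfg _).1 hn
  obtain ⟨t, ht⟩ := exists_pow_smul_eq (tilde M') (g := h) le_rfl (k + n) (secMap M' _ m')
  refine ⟨t, pow_smul_cancel _ le_rfl (k + n) ?_⟩
  rw [← map_smul, ht, secTilde_secMap, hm', map_smul, ← hk, ← mul_smul, ← pow_add, add_comm n k]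

theorem exact_qImJ_qMap (hg : Function.Surjective g.hom) (hfg : Function.Exact f.hom g.hom) (N : ℕ) :
    Function.Exact (qImJ I f N).hom (qMap I g N).hom := by
  intro z
  obtain ⟨m, rfl⟩ := Submodule.mkQ_surjective _ z
  constructor
  · intro hz
    have hz' : g.hom m ∈ I ^ (N + 1) • (⊤ : Submodule R M'') := (Submodule.Quotient.mk_eq_zero _).1 hz
    rw [← LinearMap.range_eq_top.2 hg, LinearMap.range_eq_map, ← Submodule.map_smul''] at hz'
    obtain ⟨e, he, hem⟩ := hz'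
    obtain ⟨m', hm'⟩ := (hfg (m - e)).1 (by rw [map_sub, hem, sub_self])
    refine ⟨Submodule.Quotient.mk m', ?_⟩
    show Submodule.Quotient.mk (f.hom m') = Submodule.Quotient.mk m
    rw [hm', Submodule.Quotient.eq, sub_sub_cancel_left]
    exact neg_mem he
  · rintro ⟨w, hw⟩
    obtain ⟨m', rfl⟩ := Submodule.mkQ_surjective _ w
    rw [← hw]
    show Submodule.Quotient.mk (g.hom (f.hom m')) = 0
    rw [hfg.apply_apply_eq_zero]
    rfl

variable [Module.Finite R M] {f g}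
variable (hf : Function.Injective f.hom) (hg : Function.Surjective g.hom) (hfg : Function.Exact f.hom g.hom)
include hf

theorem eq_zero_of_qMap {U : (Spec R).Opens} (d : ∀ n, Γ(tilde (qM I M' n), U))
    (hd : ∀ n, secTilde (qT I M' (Nat.le_add_right n 1)) U (d (n + 1)) = d n)
    (h0 : ∀ n, secTilde (qMap I f n) U (d n) = 0) (n : ℕ) : d n = 0 := by
  obtain ⟨c, hc⟩ := exists_rho I f hf
  obtain ⟨ρ, hρ, -⟩ := hc n
  have := (ModuleCat.mono_iff_injective (qImJ I f (n + c))).2 (qImJ_injective I f _)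
  have h1 : secTilde (qImP I f (n + c)) U (d (n + c)) = 0 := secTilde_injective (qImJ I f (n + c)) U (by
    rw [← secTilde_comp, qImP_qImJ, h0, map_zero])
  rw [← compat_le I d hd (Nat.le_add_right n c), ← hρ, secTilde_comp, h1, map_zero]

include hg hfg

set_option maxHeartbeats 800000 in
theorem exists_lift_qMap {U : (Spec R).Opens} (y : ∀ n, Γ(tilde (qM I M n), U))
    (hy : ∀ n, secTilde (qT I M (Nat.le_add_right n 1)) U (y (n + 1)) = y n)
    (h0 : ∀ n, secTilde (qMap I g n) U (y n) = 0) :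
    ∃ z : ∀ n, Γ(tilde (qM I M' n), U), (∀ n, secTilde (qT I M' (Nat.le_add_right n 1)) U (z (n + 1)) = z n) ∧
      ∀ n, secTilde (qMap I f n) U (z n) = y n := by
  obtain ⟨c, hc⟩ := exists_rho I f hf
  choose ρ hρ hρ' using hc
  have ht : ∀ N, ∃ t, secTilde (qImJ I f N) U t = y N := fun N =>
    sec_exists_preimage _ _ (qImJ_injective I f N) (exact_qImJ_qMap I f g hg hfg N) _ (h0 N)
  choose t ht using ht
  refine ⟨fun n => secTilde (ρ n) U (t (n + c)), fun n => ?_, fun n => ?_⟩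
  · let T : qIm I f (n + 1 + c) ⟶ qIm I f (n + c) := qInd (𝟙 M') _ _
      (Submodule.comap_mono (f := f.hom) (Submodule.smul_mono_left (Ideal.pow_le_pow_right (by omega))))
    have e1 : ρ (n + 1) ≫ qT I M' (Nat.le_add_right n 1) = T ≫ ρ n := by
      have : Epi (qImP I f (n + 1 + c)) := (ModuleCat.epi_iff_surjective _).2 fun z => by
        obtain ⟨m, rfl⟩ := Submodule.mkQ_surjective _ z
        exact ⟨Submodule.Quotient.mk m, rfl⟩
      rw [← cancel_epi (qImP I f (n + 1 + c))]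
      have hT : qImP I f (n + 1 + c) ≫ T = qT I M' (show n + c ≤ n + 1 + c by omega) ≫ qImP I f (n + c) :=
        qInd_square _ _ _ _ rfl _ _ _ _ _ _ _ _
      rw [reassoc_of% hρ (n + 1), reassoc_of% hT, hρ n, qT_trans, qT_trans]
    have e2 : secTilde T U (t (n + 1 + c)) = t (n + c) := by
      have := (ModuleCat.mono_iff_injective (qImJ I f (n + c))).2 (qImJ_injective I f _)
      apply secTilde_injective (qImJ I f (n + c)) U
      have hTJ : T ≫ qImJ I f (n + c) = qImJ I f (n + 1 + c) ≫ qT I M (show n + c ≤ n + 1 + c by omega) :=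
        qInd_square _ _ _ _ ((Category.id_comp _).trans (Category.comp_id _).symm) _ _ _ _ _ _ _ _
      rw [← secTilde_comp, hTJ, secTilde_comp, ht, compat_le I y hy, ht]
    rw [← secTilde_comp, e1, secTilde_comp, e2]
  · rw [← secTilde_comp, hρ', secTilde_comp, ht, compat_le I y hy]

theorem colimBij_left {U : (Spec R).Opens} (h : ColimBij I M U) (h'' : ColimBij I M'' U) :
    ColimBij I M' U := by
  have := (ModuleCat.mono_iff_injective f).2 hf
  refine ⟨fun V hV x hx => ?_, fun y hy => ?_⟩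
  · obtain ⟨V', hV', h0⟩ := h.1 V hV (secTilde f V x) fun n => by
      rw [← secTilde_comp, ← qπ_qMap, secTilde_comp, hx, map_zero]
    refine ⟨V', hV', secTilde_injective f V' ?_⟩
    rw [← secRes_secTilde, h0, map_zero]
  · obtain ⟨V, hV, x, hx⟩ := h.2 (fun n => secTilde (qMap I f n) U (y n)) fun n => by
      rw [← secTilde_comp, ← qT_qMap, secTilde_comp, hy]
    obtain ⟨V₁, hV₁, h0⟩ := h''.1 V hV (secTilde g V x) fun n => by
      rw [← secTilde_comp, ← qπ_qMap, secTilde_comp, ← hx, ← secRes_secTilde, ← secTilde_comp]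
      have : qMap I f n ≫ qMap I g n = 0 := qInd_zero f g
        (ModuleCat.hom_ext (LinearMap.ext hfg.apply_apply_eq_zero)) _ _ _ _ _
      rw [this, secTilde_zero, map_zero]
    rw [secRes_secTilde] at h0
    obtain ⟨x', hx'⟩ := sec_exists_preimage f g hf hfg _ h0
    refine ⟨V₁, hV₁.1, x', fun n => ?_⟩
    have hd := eq_zero_of_qMap I hf (U := V₁)
      (fun n => secRes _ hV₁.1.1 (y n) - secTilde (qπ I M' n) V₁ x') (fun n => ?_) (fun n => ?_) n
    · exact sub_eq_zero.1 hd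
    · rw [map_sub, ← secRes_secTilde, hy, ← secTilde_comp, qπ_qT]
    · rw [map_sub, ← secRes_secTilde, ← secTilde_comp, qπ_qMap, secTilde_comp, hx', ← secRes_secTilde,
        ← hx, secRes_secRes, sub_self]

set_option maxHeartbeats 800000 in
theorem colimBij_middle {U : (Spec R).Opens} (h' : ColimBij I M' U) (h'' : ColimBij I M'' U) :
    ColimBij I M U := by
  classical
  have := (ModuleCat.mono_iff_injective f).2 hf
  have hinj : ∀ (V : (Spec R).Opens) (_ : Adm I U V) (x : Γ(tilde M, V)), (∀ n, secTilde (qπ I M n) V x = 0) →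
      ∃ (V' : (Spec R).Opens) (h : Adm I U V' ∧ V' ≤ V), secRes _ h.2 x = 0 := by
    intro V hV x hx
    obtain ⟨V₁, hV₁, h1⟩ := h''.1 V hV (secTilde g V x) fun n => by
      rw [← secTilde_comp, ← qπ_qMap, secTilde_comp, hx, map_zero]
    rw [secRes_secTilde] at h1
    obtain ⟨x', hx'⟩ := sec_exists_preimage f g hf hfg _ h1
    obtain ⟨V₂, hV₂, h2⟩ := h'.1 V₁ hV₁.1 x' fun n =>
      eq_zero_of_qMap I hf (fun n => secTilde (qπ I M' n) V₁ x')
        (fun n => by rw [← secTilde_comp, qπ_qT])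
        (fun n => by rw [← secTilde_comp, qπ_qMap, secTilde_comp, hx', ← secRes_secTilde, hx, map_zero]) n
    refine ⟨V₂, ⟨hV₂.1, hV₂.2.trans hV₁.2⟩, ?_⟩
    rw [← secRes_secRes _ hV₁.2 hV₂.2, ← hx', secRes_secTilde, h2, map_zero]
  refine ⟨hinj, fun y hy => ?_⟩
  obtain ⟨V₁, hV₁, x'', hx''⟩ := h''.2 (fun n => secTilde (qMap I g n) U (y n)) fun n => by
    rw [← secTilde_comp, ← qT_qMap, secTilde_comp, hy]
  obtain ⟨s, hs, hcov⟩ := exists_cover (W := V₁)
    (fun h => bO h ≤ V₁ ∧ ∃ m'' : M'', h • x'' = secMap M'' V₁ m'') fun p hp => by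
    obtain ⟨h, hph, hhV⟩ := exists_basicOpen_le hp
    obtain ⟨k, m, hm⟩ := exists_pow_smul_eq_secMap hhV x''
    exact ⟨h ^ (k + 1), ⟨by rw [bO_pow _ _ (Nat.succ_pos k)]; exact hhV, m, hm⟩,
      by rw [bO_pow _ _ (Nat.succ_pos k)]; exact hph⟩
  -- numerators
  have hw : ∀ h : s, ∃ (V : (Spec R).Opens) (hV : Adm I U V) (w : Γ(tilde M, V)),
      ∀ n, secTilde (qπ I M n) V w = h.1 • secRes _ hV.1 (y n) := by
    intro h
    obtain ⟨-, m'', hm''⟩ := hs h.1 h.2
    obtain ⟨m, rfl⟩ := hg m''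
    obtain ⟨z, hz, hzy⟩ := exists_lift_qMap I hf hg hfg
      (fun n => h.1 • y n - secMap (qM I M n) U ((qπ I M n).hom m)) (fun n => by
        rw [map_sub, map_smul, hy, secTilde_secMap]
        rfl) (fun n => by
        refine eq_zero_of_adm M'' hV₁ _ ?_
        rw [secRes_secTilde, map_sub, map_smul, secRes_secMap, map_sub, map_smul, ← secRes_secTilde, hx'',
          ← map_smul, hm'', secTilde_secMap, secTilde_secMap]
        exact sub_eq_zero.2 rfl)
    obtain ⟨V, hV, x', hx'⟩ := h'.2 z hz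
    refine ⟨V, hV, secMap M V m + secTilde f V x', fun n => ?_⟩
    rw [map_add, secTilde_secMap, ← secTilde_comp, ← qπ_qMap, secTilde_comp, ← hx', ← secRes_secTilde,
      hzy, map_sub, map_smul, secRes_secMap, add_sub_cancel]
  choose V hV w hw using hw
  -- common open
  obtain ⟨V₂, hV₂, hle₁, hle⟩ : ∃ V₂, Adm I U V₂ ∧ V₂ ≤ V₁ ∧ ∀ h : s, V₂ ≤ V h := by
    refine ⟨V₁ ⊓ s.attach.inf V, hV₁.inf_finset _ V (fun i _ => hV i), inf_le_left, fun h =>
      inf_le_right.trans (Finset.inf_le (Finset.mem_attach s h))⟩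
  have hpair : ∀ q : s × s, ∃ (V' : (Spec R).Opens) (hV' : Adm I U V' ∧ V' ≤ V₂),
      q.2.1 • secRes _ (hV'.2.trans (hle q.1)) (w q.1) = q.1.1 • secRes _ (hV'.2.trans (hle q.2)) (w q.2) := by
    intro q
    obtain ⟨V', hV', h0⟩ := hinj V₂ hV₂ (q.2.1 • secRes _ (hle q.1) (w q.1) - q.1.1 • secRes _ (hle q.2) (w q.2))
      fun n => by
        rw [map_sub, map_smul, map_smul, ← secRes_secTilde, ← secRes_secTilde, hw, hw, map_smul, map_smul,
          secRes_secRes, secRes_secRes, smul_comm]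
        exact sub_self _
    refine ⟨V', hV', ?_⟩
    rw [map_sub, map_smul, map_smul, secRes_secRes, secRes_secRes, sub_eq_zero] at h0
    exact h0
  choose V' hV' hcomm using hpair
  obtain ⟨W, hW, hW₂, hW'⟩ : ∃ W, Adm I U W ∧ W ≤ V₂ ∧ ∀ q, W ≤ V' q := by
    refine ⟨V₂ ⊓ (s.attach ×ˢ s.attach).inf V', hV₂.inf_finset _ V' (fun q _ => (hV' q).1), inf_le_left, fun q =>
      inf_le_right.trans (Finset.inf_le (Finset.mem_product.2 ⟨Finset.mem_attach _ _, Finset.mem_attach _ _⟩))⟩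
  let D : s → (Spec R).Opens := fun h => W ⊓ bO h.1
  have hD : ∀ h : s, ∃ t : Γ(tilde M, D h), h.1 • t = secRes _ (inf_le_left.trans (hW₂.trans (hle h))) (w h) := by
    intro h
    obtain ⟨t, ht⟩ := exists_pow_smul_eq (tilde M) (inf_le_right : D h ≤ bO h.1) 1
      (secRes _ (inf_le_left.trans (hW₂.trans (hle h))) (w h))
    exact ⟨t, by rwa [pow_one] at ht⟩
  choose t ht using hD
  have hcompat : TopCat.Presheaf.IsCompatible (tilde M).presheaf D t := by
    intro a b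
    change secRes (tilde M) inf_le_left (t a) = secRes (tilde M) inf_le_right (t b)
    refine pow_smul_cancel _ ((le_inf (inf_le_left.trans inf_le_right) (inf_le_right.trans inf_le_right)).trans
      (bO_mul a.1 b.1).ge) 1 ?_
    have hh := congrArg (secRes (tilde M) ((inf_le_left : D a ⊓ D b ≤ D a).trans (inf_le_left.trans (hW' (a, b)))))
      (hcomm (a, b))
    rw [map_smul, map_smul, secRes_secRes, secRes_secRes] at hh
    rw [pow_one, mul_comm, mul_smul, ← map_smul, ht, secRes_secRes, mul_comm, mul_smul, ← map_smul (secRes (tilde M) inf_le_right) b.1,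
      ht, secRes_secRes]
    exact hh
  have hWcov : ∀ p ∈ W, ∃ h : s, p ∈ D h := fun p hp => by
    obtain ⟨h, hh, hph⟩ := hcov p (hle₁ (hW₂ hp))
    exact ⟨⟨h, hh⟩, hp, hph⟩
  obtain ⟨x, hx, -⟩ := TopCat.Sheaf.existsUnique_gluing' ⟨(tilde M).presheaf, (tilde M).isSheaf⟩ D W
    (fun h => homOfLE inf_le_left) (fun p hp => Opens.mem_iSup.2 (hWcov p hp)) t hcompat
  refine ⟨W, hW, x, fun n => sec_ext _ D (fun h => inf_le_left) hWcov fun h => ?_⟩
  rw [secRes_secRes, secRes_secTilde, show secRes (tilde M) inf_le_left x = t h from hx h]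
  refine pow_smul_cancel _ (inf_le_right : D h ≤ bO h.1) 1 ?_
  rw [pow_one, ← map_smul (secTilde (qπ I M n) (D h)), ht, ← secRes_secTilde, hw, map_smul, secRes_secRes]

end SES

end Groth.Agent.PunctCoh79
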