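import Groth.Prelude.Def_Formal2
import Groth.Agent.PunctCoh79.FormalSec
import Groth.Agent.SiteBase.Cohom

/-!
# `H^0(V, M~)` as sections
-/

universe u

open CategoryTheory CategoryTheory.Limits AlgebraicGeometry TopologicalSpace Opposite
open CategoryTheory.Abelian

namespace Groth.Agent.PunctCoh79

variable {A : Type u} [CommRing A] {V W : (Spec (CommRingCat.of A)).Opens}
variable {M N : Type u} [AddCommGroup M] [Module A M] [AddCommGroup N] [Module A N]

/-- `H^0(V, M~) = Γ(V, M~)` -/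
noncomputable def hv0 (M : Type u) [AddCommGroup M] [Module A M] (V : (Spec (CommRingCat.of A)).Opens) :
    Formal2.HV A M 0 V ≃+ Γ(tilde (R := CommRingCat.of A) (ModuleCat.of A M), V) :=
  SiteBase.huZero (Coh.toAb (Formal2.tmod A M)) V

theorem hv0_map (φ : M →ₗ[A] N) (x : Formal2.HV A M 0 V) :
    hv0 N V (Formal2.HVmap A φ 0 V x) =
      secTilde (R := CommRingCat.of A) (ModuleCat.ofHom φ) V (hv0 M V x) := by
  obtain ⟨a, rfl⟩ := (Ext.mk₀_bijective _ _).2 x
  refine (congrArg (hv0 N V) (Ext.mk₀_comp_mk₀ a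
    ((SheafOfModules.toSheaf _).map (Formal2.tmodMap A φ)))).trans ?_
  refine (SiteBase.huZero_mk₀ (Coh.toAb (Formal2.tmod A N)) V _).trans ?_
  refine Eq.trans ?_ (congrArg (secTilde _ V) (SiteBase.huZero_mk₀ (Coh.toAb (Formal2.tmod A M)) V a).symm)
  exact SiteBase.secEquiv_comp V a ((SheafOfModules.toSheaf _).map (Formal2.tmodMap A φ))

theorem hv0_res (h : W ≤ V) (x : Formal2.HV A M 0 V) :
    hv0 M W (Formal2.HVres A M 0 h x) = secRes _ h (hv0 M V x) := by
  obtain ⟨a, rfl⟩ := (Ext.mk₀_bijective _ _).2 x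
  refine (congrArg (hv0 M W) (Ext.mk₀_comp_mk₀
    (CohCx.freeSheafMap (Opens.grothendieckTopology (Spec (CommRingCat.of A))) (homOfLE h)) a)).trans ?_
  refine (SiteBase.huZero_mk₀ (Coh.toAb (Formal2.tmod A M)) W _).trans ?_
  refine Eq.trans ?_ (congrArg (secRes _ h) (SiteBase.huZero_mk₀ (Coh.toAb (Formal2.tmod A M)) V a).symm)
  exact SiteBase.secEquiv_freeSheafMap (homOfLE h) a

theorem quotPowπ_eq (I : Ideal A) (n : ℕ) :
    ModuleCat.ofHom (Formal2.quotPowπ A I M n) = qπ (R := CommRingCat.of A) I (ModuleCat.of A M) n := rfl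

theorem quotPowTrans_eq (I : Ideal A) (n : ℕ) :
    ModuleCat.ofHom (Formal2.quotPowTrans A I M n) =
      qT (R := CommRingCat.of A) I (ModuleCat.of A M) (Nat.le_add_right n 1) :=
  ModuleCat.hom_ext (Submodule.linearMap_qext _ rfl)

theorem colimBij_iff (I : Ideal A) (U : (Spec (CommRingCat.of A)).Opens) :
    Formal2.FormalCohColimBijective A I M 0 U ↔
      ColimBij (R := CommRingCat.of A) I (ModuleCat.of A M) U := by
  constructor
  · intro h
    refine ⟨fun V hV x hx => ?_, fun y hy => ?_⟩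
    · obtain ⟨V', hV', h0⟩ := h.1 V hV ((hv0 M V).symm x) fun n => by
        apply (hv0 _ V).injective
        rw [hv0_map, AddEquiv.apply_symm_apply, quotPowπ_eq, map_zero]
        exact hx n
      refine ⟨V', hV', ?_⟩
      have := congrArg (hv0 M V') h0
      rwa [hv0_res, AddEquiv.apply_symm_apply, map_zero] at this
    · obtain ⟨V, hV, x, hx⟩ := h.2 (fun n => (hv0 _ U).symm (y n)) fun n => by
        apply (hv0 _ U).injective
        rw [hv0_map, AddEquiv.apply_symm_apply, AddEquiv.apply_symm_apply, quotPowTrans_eq]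
        exact hy n
      refine ⟨V, hV, hv0 M V x, fun n => ?_⟩
      have := congrArg (hv0 _ V) (hx n)
      rwa [hv0_res, hv0_map, AddEquiv.apply_symm_apply, quotPowπ_eq] at this
  · intro h
    refine ⟨fun V hV x hx => ?_, fun y hy => ?_⟩
    · obtain ⟨V', hV', h0⟩ := h.1 V hV (hv0 M V x) fun n => by
        rw [← quotPowπ_eq, ← hv0_map, hx n, map_zero]
      refine ⟨V', hV', (hv0 M V').injective ?_⟩
      rw [hv0_res, map_zero]
      exact h0
    · obtain ⟨V, hV, x, hx⟩ := h.2 (fun n => hv0 _ U (y n)) fun n => by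
        rw [← quotPowTrans_eq, ← hv0_map, hy n]
      refine ⟨V, hV, (hv0 M V).symm x, fun n => (hv0 _ V).injective ?_⟩
      rw [hv0_res, hv0_map, AddEquiv.apply_symm_apply, quotPowπ_eq]
      exact hx n

end Groth.Agent.PunctCoh79
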