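import Groth.Agent.PunctCoh79.Compare
import Groth.Agent.Adic7.Basic

/-!
# `H^i(U, M~) = lim H^i(U, (M/f^n M)~)` for a principal ideal
-/

universe u

open CategoryTheory CategoryTheory.Limits AlgebraicGeometry TopologicalSpace Opposite

namespace Groth.Agent.PunctCoh79

variable {R : CommRingCat.{u}} (V : (Spec R).Opens) (i : ℕ) (f : R)

theorem scM_scM (a b : R) (M : ModuleCat.{u} R) : scM a M ≫ scM b M = scM (a * b) M :=
  ModuleCat.hom_ext (LinearMap.ext fun m => by
    show b • a • m = (a * b) • m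
    rw [smul_smul, mul_comm])

theorem hMap_scM_mul (a b : R) (M : ModuleCat.{u} R) (x : cohV V i M) :
    hMap V i (scM (a * b) M) x = hMap V i (scM b M) (hMap V i (scM a M) x) := by
  rw [← hMap_comp, scM_scM]

/-- `f^n H^i(V, M~)` -/
noncomputable def fPow (n : ℕ) (M : ModuleCat.{u} R) : AddSubgroup (cohV V i M) :=
  (hMap V i (scM (f ^ n) M)).range

theorem fPow_anti (M : ModuleCat.{u} R) {n m : ℕ} (h : n ≤ m) : fPow V i f m M ≤ fPow V i f n M := by
  rintro _ ⟨y, rfl⟩
  refine ⟨hMap V i (scM (f ^ (m - n)) M) y, ?_⟩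
  rw [← hMap_scM_mul, ← pow_add, Nat.sub_add_cancel h]

theorem sub_mem_fPow (M : ModuleCat.{u} R) (z : ℕ → cohV V i M)
    (hz : ∀ n, z (n + 1) - z n ∈ fPow V i f (n + 1) M) {n m : ℕ} (h : n ≤ m) :
    z m - z n ∈ fPow V i f (n + 1) M := by
  induction m, h using Nat.le_induction with
  | base => rw [sub_self]; exact zero_mem _
  | succ m hm ih =>
    rw [← sub_add_sub_cancel _ (z m)]
    exact add_mem (fPow_anti V i f M (Nat.add_le_add_right hm 1) (hz m)) ih

/-- `H^i(V, M~)` is `f`-adically complete -/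
def FComplete (M : ModuleCat.{u} R) : Prop :=
  (∀ x : cohV V i M, (∀ n, x ∈ fPow V i f n M) → x = 0) ∧
  ∀ z : ℕ → cohV V i M, (∀ n, z (n + 1) - z n ∈ fPow V i f (n + 1) M) →
    ∃ x, ∀ n, x - z n ∈ fPow V i f (n + 1) M

theorem fComplete_of_kill (M : ModuleCat.{u} R) {k : ℕ} (hk : ∀ x, hMap V i (scM (f ^ k) M) x = 0) :
    FComplete V i f M := by
  refine ⟨fun x hx => ?_, fun z hz => ⟨z k, fun n => ?_⟩⟩
  · obtain ⟨y, rfl⟩ := hx k
    exact hk y
  · rcases le_total n k with h | h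
    · exact sub_mem_fPow V i f M z hz h
    · obtain ⟨y, hy⟩ := fPow_anti V i f M (Nat.le_add_right k 1) (sub_mem_fPow V i f M z hz h)
      rw [hk] at hy
      rw [← neg_sub, ← hy, neg_zero]
      exact zero_mem _

theorem fComplete_zero [IsNoetherianRing R] (I : Ideal R) [IsAdicComplete (Ideal.span {f}) R]
    (M : ModuleCat.{u} R) [Module.Finite R M] {k : ℕ}
    (hk : ∀ x : (localCohomology I 1).obj M, f ^ k • x = 0) : FComplete (pOpen I) 0 f M := by
  obtain ⟨Φ, -, hΦk, hΦc⟩ := exists_H1_hom I M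
  have hrange : ∀ x, ∃ m, hOf (pOpen I) M m = hMap (pOpen I) 0 (scM (f ^ k) M) x := fun x =>
    (hΦk _).1 ((hΦc _ _).trans (hk _))
  have hfp : ∀ n (m : M), hOf (pOpen I) M (f ^ n • m) ∈ fPow (pOpen I) 0 f n M := fun n m =>
    ⟨hOf (pOpen I) M m, hMap_scM_hOf _ _ _ _⟩
  have hfp' : ∀ n (y : cohV (pOpen I) 0 M), y ∈ fPow (pOpen I) 0 f (k + n) M →
      ∃ m, hOf (pOpen I) M (f ^ n • m) = y := by
    rintro n _ ⟨y, rfl⟩
    obtain ⟨m, hm⟩ := hrange y
    exact ⟨m, by rw [← hMap_scM_hOf, hm, ← hMap_scM_mul, pow_add]⟩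
  have hspan : ∀ (N : Type u) [AddCommGroup N] [Module R N] (n : ℕ) (x : N),
      x ∈ Ideal.span {f} ^ n • (⊤ : Submodule R N) ↔ ∃ y, f ^ n • y = x := fun N _ _ n x => by
    rw [Ideal.span_singleton_pow, Submodule.ideal_span_singleton_smul, Submodule.mem_smul_pointwise_iff_exists]
    simp
  refine ⟨fun x hx => ?_, fun z hz => ?_⟩
  · choose m hm using fun n => hfp' n x (hx (k + n))
    have := Adic7.isAdicComplete_of_finite (I := Ideal.span {f}) (M ⧸ DRing.torsionSub I M)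
    have h0 : (Submodule.Quotient.mk (f ^ 0 • m 0) : M ⧸ DRing.torsionSub I M) = 0 := by
      refine IsHausdorff.haus (inferInstance : IsHausdorff (Ideal.span {f}) (M ⧸ DRing.torsionSub I M)) _ fun n => ?_
      rw [SModEq.zero, hspan]
      refine ⟨Submodule.Quotient.mk (m n), ?_⟩
      rw [← Submodule.Quotient.mk_smul, Submodule.Quotient.eq, ← hOf_eq_zero_iff, map_sub, hm, hm, sub_self]
    rw [← hm 0]
    exact (hOf_eq_zero_iff I M _).2 ((Submodule.Quotient.mk_eq_zero _).1 h0)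
  · choose m hm using fun n => hfp' (n + 1) _ (hz (k + n))
    have := Adic7.isAdicComplete_of_finite (I := Ideal.span {f}) M
    obtain ⟨L, hL⟩ := IsPrecomplete.prec (inferInstance : IsPrecomplete (Ideal.span {f}) M)
      (f := fun n => ∑ j ∈ Finset.range n, f ^ (j + 1) • m j) fun {a b} hab => by
        refine SModEq.symm (SModEq.sub_mem.2 ?_)
        rw [← Finset.sum_range_add_sum_Ico _ hab, add_sub_cancel_left]
        refine Submodule.sum_mem _ fun j hj => (hspan M a _).2 ⟨f ^ (j + 1 - a) • m j, ?_⟩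
        rw [smul_smul, ← pow_add, Nat.add_sub_cancel' (by have := (Finset.mem_Ico.1 hj).1; omega)]
    refine ⟨z k + hOf (pOpen I) M L, fun n => ?_⟩
    obtain ⟨y, hy⟩ := (hspan M (n + 1) _).1 (SModEq.sub_mem.1 (hL (n + 1)).symm)
    have htel : ∀ N, hOf (pOpen I) M (∑ j ∈ Finset.range N, f ^ (j + 1) • m j) = z (k + N) - z k := by
      intro N
      induction N with
      | zero => simp
      | succ N ih =>
        rw [Finset.sum_range_succ, map_add, ih, hm, ← add_assoc k N 1]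
        abel
    have e : z k + hOf (pOpen I) M L - z n =
        hOf (pOpen I) M (f ^ (n + 1) • y) + (z (k + (n + 1)) - z n) := by
      rw [hy, map_sub, htel]; abel
    rw [e]
    exact add_mem (hfp _ _) (sub_mem_fPow _ _ f M z hz (by omega))

/-- torsion bound -/
theorem exists_torsion_bound [IsNoetherianRing R] (M : ModuleCat.{u} R) [Module.Finite R M] :
    ∃ c : ℕ, ∀ (n : ℕ) (m : M), f ^ n • m = 0 → f ^ c • m = 0 := by
  obtain ⟨n, hn⟩ := monotone_stabilizes_iff_noetherian.mpr (inferInstance : IsNoetherian R M)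
    ⟨fun n => LinearMap.ker (LinearMap.lsmul R M (f ^ n)), fun a b hab m hm => by
      rw [LinearMap.mem_ker, LinearMap.lsmul_apply] at hm ⊢
      rw [← Nat.sub_add_cancel hab, pow_add, mul_smul, hm, smul_zero]⟩
  refine ⟨n, fun j m hm => ?_⟩
  rcases le_total j n with h | h
  · rw [← Nat.sub_add_cancel h, pow_add, mul_smul, hm, smul_zero]
  · exact (SetLike.ext_iff.1 (hn j h) m).2 hm

section Tower

variable (M : ModuleCat.{u} R)

/-- `f^(n+1) M` as an object -/
noncomputable abbrev kObj (n : ℕ) : ModuleCat.{u} R :=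
  ModuleCat.of R ↥(Ideal.span {f} ^ (n + 1) • (⊤ : Submodule R M))

/-- inclusion -/
noncomputable abbrev kι (n : ℕ) : kObj f M n ⟶ M :=
  ModuleCat.ofHom (Ideal.span {f} ^ (n + 1) • (⊤ : Submodule R M)).subtype

/-- transition -/
noncomputable abbrev kT {n N : ℕ} (h : n ≤ N) : kObj f M N ⟶ kObj f M n :=
  ModuleCat.ofHom (Submodule.inclusion
    (Submodule.smul_mono_left (Ideal.pow_le_pow_right (Nat.add_le_add_right h 1))))

theorem mem_kObj_iff (n : ℕ) (x : M) :
    x ∈ Ideal.span {f} ^ (n + 1) • (⊤ : Submodule R M) ↔ ∃ y, f ^ (n + 1) • y = x := by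
  rw [Ideal.span_singleton_pow, Submodule.ideal_span_singleton_smul, Submodule.mem_smul_pointwise_iff_exists]
  simp

/-- the short exact sequence at level `n` -/
noncomputable abbrev kSeq (n : ℕ) : ShortComplex (ModuleCat.{u} R) :=
  ShortComplex.mk (kι f M n) (qπ (Ideal.span {f}) M n)
    (ModuleCat.hom_ext (LinearMap.ext fun x => (Submodule.Quotient.mk_eq_zero _).2 x.2))

theorem kSeq_shortExact (n : ℕ) : (kSeq f M n).ShortExact where
  exact := (ShortComplex.ShortExact.moduleCat_exact_iff_function_exact _).2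
    (LinearMap.exact_iff.2 ((Submodule.ker_mkQ _).trans (Submodule.range_subtype _).symm))
  mono_f := (ModuleCat.mono_iff_injective _).2 Subtype.val_injective
  epi_g := (ModuleCat.epi_iff_surjective _).2 (Submodule.mkQ_surjective _)

/-- morphism of levels -/
noncomputable abbrev kSeqHom {n N : ℕ} (h : n ≤ N) : kSeq f M N ⟶ kSeq f M n :=
  ShortComplex.homMk (kT f M h) (𝟙 M) (qT (Ideal.span {f}) M h)
    (show kT f M h ≫ kι f M n = kι f M N ≫ 𝟙 M from rfl) ((Category.id_comp _).trans (qπ_qT _ _ h).symm)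

/-- "divide by a power of `f`" -/
theorem exists_div {c : ℕ} (hc : ∀ (n : ℕ) (m : M), f ^ n • m = 0 → f ^ c • m = 0) (n e : ℕ) (he : c ≤ e) :
    ∃ ψ : kObj f M n ⟶ M, ∀ (y : M) (h : f ^ (n + 1) • y ∈ Ideal.span {f} ^ (n + 1) • (⊤ : Submodule R M)),
      ψ.hom ⟨_, h⟩ = f ^ e • y := by
  have hdef : ∀ x : kObj f M n, ∃ y, f ^ (n + 1) • y = x.1 := fun x => (mem_kObj_iff f M n _).1 x.2
  choose σ hσ using hdef
  have key : ∀ (x : kObj f M n) (y : M), f ^ (n + 1) • y = x.1 → f ^ e • σ x = f ^ e • y := by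
    intro x y hy
    have h0 := hc (n + 1) (σ x - y) (by rw [smul_sub, hσ, hy, sub_self])
    rw [← sub_eq_zero, ← smul_sub, ← Nat.sub_add_cancel he, pow_add, mul_smul, h0, smul_zero]
  let φ : kObj f M n →ₗ[R] M :=
    { toFun := fun x => f ^ e • σ x
      map_add' := fun x x' => by
        rw [key (x + x') (σ x + σ x') (by rw [smul_add, hσ, hσ]; rfl), smul_add]
      map_smul' := fun a x => by
        show f ^ e • σ (a • x) = a • f ^ e • σ x
        rw [key (a • x) (a • σ x) (by rw [smul_comm, hσ]; rfl), smul_comm] }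
  exact ⟨ModuleCat.ofHom φ, fun y h => key ⟨_, h⟩ y rfl⟩

/-- "multiply by a power of `f`" -/
noncomputable abbrev kMul (n : ℕ) : M ⟶ kObj f M n :=
  ModuleCat.ofHom (LinearMap.codRestrict _ (f ^ (n + 1) • LinearMap.id) fun m =>
    (mem_kObj_iff f M n _).2 ⟨m, rfl⟩)

variable [IsNoetherianRing R] [Module.Finite R M]

theorem lim_bijective {k : ℕ} (hk : ∀ x, hMap V (i + 1) (scM (f ^ k) M) x = 0) (hC : FComplete V i f M) :
    (∀ x : cohV V i M, (∀ n, hMap V i (qπ (Ideal.span {f}) M n) x = 0) → x = 0) ∧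
      ∀ y : ∀ n, cohV V i (qM (Ideal.span {f}) M n),
        (∀ n, hMap V i (qT (Ideal.span {f}) M (Nat.le_add_right n 1)) (y (n + 1)) = y n) →
          ∃ x, ∀ n, hMap V i (qπ (Ideal.span {f}) M n) x = y n := by
  obtain ⟨c, hc⟩ := exists_torsion_bound f M
  -- the image of `f^(n+c+1) M` is divisible by `f^(n+1)`
  have hsmall : ∀ (n : ℕ) (w : cohV V i (kObj f M (n + c))),
      hMap V i (kι f M (n + c)) w ∈ fPow V i f (n + 1) M := by
    intro n w
    obtain ⟨ψ, hψ⟩ := exists_div f M hc (n + c) c le_rfl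
    refine ⟨hMap V i ψ w, ?_⟩
    rw [← hMap_comp]
    congr 2
    refine ModuleCat.hom_ext (LinearMap.ext fun x => ?_)
    obtain ⟨v, hv⟩ := x
    obtain ⟨y, rfl⟩ := (mem_kObj_iff f M _ _).1 hv
    show f ^ (n + 1) • ψ.hom _ = f ^ (n + c + 1) • y
    rw [hψ, smul_smul, ← pow_add, show n + 1 + c = n + c + 1 by omega]
  have hπ0 : ∀ (n : ℕ) (w : cohV V i M), w ∈ fPow V i f (n + 1) M → hMap V i (qπ (Ideal.span {f}) M n) w = 0 := by
    rintro n _ ⟨w, rfl⟩
    rw [← hMap_comp, show scM (f ^ (n + 1)) M ≫ qπ (Ideal.span {f}) M n = 0 from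
      ModuleCat.hom_ext (LinearMap.ext fun m => (Submodule.Quotient.mk_eq_zero _).2
        ((mem_kObj_iff f M n _).2 ⟨m, rfl⟩)), hMap_zero]
  have hker : ∀ (n : ℕ) (x : cohV V i M), hMap V i (qπ (Ideal.span {f}) M (n + c)) x = 0 →
      x ∈ fPow V i f (n + 1) M := fun n x hx => by
    obtain ⟨w, rfl⟩ := (hExact₂ V i (kSeq_shortExact f M (n + c)) x).1 hx
    exact hsmall n w
  refine ⟨fun x hx => hC.1 x fun n => fPow_anti V i f M (Nat.le_add_right n 1) (hker n x (hx _)), fun y hy => ?_⟩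
  have hy' : ∀ {n N : ℕ} (h : n ≤ N), hMap V i (qT (Ideal.span {f}) M h) (y N) = y n := by
    intro n N h
    induction N, h using Nat.le_induction with
    | base => rw [qT_refl, hMap_id]
    | succ N hN ih => rw [← qT_trans (Ideal.span {f}) M hN (Nat.le_add_right N 1), hMap_comp, hy, ih]
  -- the boundary vanishes
  have hx : ∀ n, ∃ x, hMap V i (qπ (Ideal.span {f}) M n) x = y n := by
    intro n
    refine (hExact₃ V i (kSeq_shortExact f M n) rfl (y n)).1 ?_
    rw [← hy' (Nat.le_add_right n (c + k)),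
      ← show hMap V (i + 1) (kT f M (Nat.le_add_right n (c + k))) _ = hδ V i (kSeq_shortExact f M n) rfl
          (hMap V i (qT (Ideal.span {f}) M (Nat.le_add_right n (c + k))) (y (n + (c + k)))) from
        hδ_natural V i (kSeq_shortExact f M (n + (c + k))) (kSeq_shortExact f M n)
          (kSeqHom f M (Nat.le_add_right n (c + k))) rfl (y (n + (c + k)))]
    obtain ⟨ψ, hψ⟩ := exists_div f M hc (n + (c + k)) c le_rfl
    have e : kT f M (Nat.le_add_right n (c + k)) = ψ ≫ scM (f ^ k) M ≫ kMul f M n := by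
      refine ModuleCat.hom_ext (LinearMap.ext fun x => Subtype.ext ?_)
      obtain ⟨v, hv⟩ := x
      obtain ⟨m, rfl⟩ := (mem_kObj_iff f M _ _).1 hv
      show f ^ (n + (c + k) + 1) • m = f ^ (n + 1) • (f ^ k • ψ.hom _)
      rw [hψ, smul_smul, smul_smul, ← pow_add, ← pow_add]
      congr 2
      omega
    rw [e, hMap_comp, hMap_comp, hk, map_zero]
  choose x hx using hx
  obtain ⟨L, hL⟩ := hC.2 (fun n => x (n + c)) fun n => hker n _ (by
    rw [map_sub, hx, ← qπ_qT (Ideal.span {f}) M (show n + c ≤ n + 1 + c by omega), hMap_comp, hx,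
      hy', sub_self])
  refine ⟨L, fun n => ?_⟩
  have h1 := hπ0 n _ (hL n)
  rw [map_sub, sub_eq_zero] at h1
  rw [h1, ← qπ_qT (Ideal.span {f}) M (Nat.le_add_right n c), hMap_comp, hx, hy']

end Tower

theorem lim_pOpen_bijective [IsNoetherianRing R] (I : Ideal R) (f : R)
    [IsAdicComplete (Ideal.span {f}) R] (M : ModuleCat.{u} R) [Module.Finite R M] (i : ℕ)
    (h₁ : ∃ n : ℕ, ∀ x : (localCohomology I (i + 1)).obj M, f ^ n • x = 0)
    (h₂ : ∃ n : ℕ, ∀ x : (localCohomology I (i + 2)).obj M, f ^ n • x = 0) :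
    (∀ x : cohV (pOpen I) i M, (∀ n, hMap (pOpen I) i (qπ (Ideal.span {f}) M n) x = 0) → x = 0) ∧
      ∀ y : ∀ n, cohV (pOpen I) i (qM (Ideal.span {f}) M n),
        (∀ n, hMap (pOpen I) i (qT (Ideal.span {f}) M (Nat.le_add_right n 1)) (y (n + 1)) = y n) →
          ∃ x, ∀ n, hMap (pOpen I) i (qπ (Ideal.span {f}) M n) x = y n := by
  obtain ⟨k, hk⟩ := h₂
  obtain ⟨l, hl⟩ := h₁
  have hkill : ∀ (p n : ℕ), (∀ x : (localCohomology I (p + 2)).obj M, f ^ n • x = 0) →
      ∀ x : cohV (pOpen I) (p + 1) M, hMap (pOpen I) (p + 1) (scM (f ^ n) M) x = 0 := by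
    intro p n hn x
    obtain ⟨e, he⟩ := exists_equiv I p M
    apply e.injective
    rw [he, hn, map_zero]
  refine lim_bijective (pOpen I) i f M (hkill i k hk) ?_
  cases i with
  | zero => exact fComplete_zero f I M hl
  | succ i => exact fComplete_of_kill _ _ f _ (hkill i l hl)

end Groth.Agent.PunctCoh79
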