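import Groth.Agent.PunctCoh79.FastInst
import Groth.Agent.PunctCoh79.Principal
import Mathlib.RingTheory.Localization.AtPrime.Basic
import Mathlib.RingTheory.Nakayama
import Mathlib.Algebra.Module.LocalizedModule.Basic

/-!
# Formal sections near `V(f)` for a regular `f`
-/

universe u

open CategoryTheory CategoryTheory.Limits AlgebraicGeometry TopologicalSpace Opposite

namespace Groth.Agent.PunctCoh79

variable {R : CommRingCat.{u}}

/-- Nakayama at a prime: a finite module all of whose elements are `p`-locally divisible by `f ∈ p`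
vanishes at `p`. -/
theorem exists_kill_of_div {Q : Type u} [AddCommGroup Q] [Module R Q] [Module.Finite R Q] (p : Ideal R)
    [p.IsPrime] (f : R) (hf : f ∈ p) (h : ∀ q : Q, ∃ s ∉ p, ∃ q', s • q = f • q') (q : Q) :
    ∃ t ∉ p, t • q = 0 := by
  have : Module.Finite (Localization p.primeCompl) (LocalizedModule p.primeCompl Q) :=
    Module.Finite.of_isLocalizedModule p.primeCompl (LocalizedModule.mkLinearMap p.primeCompl Q)
  have hmax : algebraMap R (Localization.AtPrime p) f ∈
      IsLocalRing.maximalIdeal (Localization.AtPrime p) :=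
    (IsLocalization.AtPrime.to_map_mem_maximal_iff _ p f).2 hf
  have htop : (⊤ : Submodule (Localization.AtPrime p) (LocalizedModule p.primeCompl Q)) = ⊥ := by
    refine Submodule.eq_bot_of_le_smul_of_le_jacobson_bot (IsLocalRing.maximalIdeal (Localization.AtPrime p)) ⊤
      Module.Finite.fg_top (fun x _ => ?_) (IsLocalRing.maximalIdeal_le_jacobson _)
    induction x using LocalizedModule.induction_on with
    | h q s =>
      obtain ⟨s', hs', q', hq'⟩ := h q
      have e : LocalizedModule.mk q s = algebraMap R (Localization.AtPrime p) f •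
          LocalizedModule.mk q' (⟨s', hs'⟩ * s) := by
        rw [algebraMap_smul, LocalizedModule.smul'_mk, ← hq']
        exact (LocalizedModule.mk_cancel_common_left (⟨s', hs'⟩ : p.primeCompl) s q).symm
      rw [e]
      exact Submodule.smul_mem_smul hmax Submodule.mem_top
  have h0 : LocalizedModule.mkLinearMap p.primeCompl Q q = 0 :=
    (Submodule.eq_bot_iff _).1 htop _ Submodule.mem_top
  obtain ⟨⟨t, ht⟩, e⟩ := (IsLocalizedModule.eq_zero_iff p.primeCompl (LocalizedModule.mkLinearMap p.primeCompl Q)).1 h0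
  exact ⟨t, ht, e⟩

/-- Krull's intersection theorem at a prime `p ∋ f`. -/
theorem exists_kill_of_mem_pow [IsNoetherianRing R] {M : Type u} [AddCommGroup M] [Module R M]
    [Module.Finite R M] (p : Ideal R) [p.IsPrime] (f : R) (hf : f ∈ p) (m : M)
    (h : ∀ n, ∃ s ∉ p, ∃ m', s • m = f ^ n • m') : ∃ t ∉ p, t • m = 0 := by
  have : Module.Finite (Localization p.primeCompl) (LocalizedModule p.primeCompl M) :=
    Module.Finite.of_isLocalizedModule p.primeCompl (LocalizedModule.mkLinearMap p.primeCompl M)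
  have hmax : algebraMap R (Localization.AtPrime p) f ∈
      IsLocalRing.maximalIdeal (Localization.AtPrime p) :=
    (IsLocalization.AtPrime.to_map_mem_maximal_iff _ p f).2 hf
  have : IsNoetherianRing (Localization.AtPrime p) := IsLocalization.isNoetherianRing p.primeCompl _ inferInstance
  have h0 : LocalizedModule.mkLinearMap p.primeCompl M m ∈
      (⨅ n : ℕ, IsLocalRing.maximalIdeal (Localization.AtPrime p) ^ n •
        (⊤ : Submodule (Localization.AtPrime p) (LocalizedModule p.primeCompl M))) := by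
    refine (Submodule.mem_iInf _).2 fun n => ?_
    obtain ⟨s, hs, m', hm'⟩ := h n
    have e : LocalizedModule.mkLinearMap p.primeCompl M m =
        algebraMap R (Localization.AtPrime p) f ^ n • LocalizedModule.mk m' (⟨s, hs⟩ : p.primeCompl) := by
      rw [← map_pow, algebraMap_smul, LocalizedModule.smul'_mk, ← hm']
      exact (LocalizedModule.mk_cancel (⟨s, hs⟩ : p.primeCompl) m).symm
    rw [e]
    exact Submodule.smul_mem_smul (Ideal.pow_mem_pow hmax n) Submodule.mem_top
  rw [Ideal.iInf_pow_smul_eq_bot_of_isLocalRing _ (IsLocalRing.maximalIdeal.isMaximal _).ne_top] at h0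
  obtain ⟨⟨t, ht⟩, e⟩ := (IsLocalizedModule.eq_zero_iff p.primeCompl (LocalizedModule.mkLinearMap p.primeCompl M)).1 h0
  exact ⟨t, ht, e⟩

theorem secTilde_scM (c : R) (M : ModuleCat.{u} R) (U : (Spec R).Opens) (s : Γ(tilde M, U)) :
    secTilde (scM c M) U s = c • s := by
  refine sec_ext _ (fun g : {g : R // bO g ≤ U} => bO g.1) (fun g => g.2) (fun p hp => ?_) fun g => ?_
  · obtain ⟨g, hpg, hgU⟩ := exists_basicOpen_le hp
    exact ⟨⟨g, hgU⟩, hpg⟩
  obtain ⟨m, k, hk⟩ := exists_secMap_eq M g.1 (secRes (tilde M) g.2 s)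
  refine pow_smul_cancel (tilde M) (le_refl (bO g.1)) k ?_
  rw [secRes_secTilde, ← map_smul, hk, secTilde_secMap, map_smul (secRes (tilde M) g.2), smul_comm, hk,
    ← map_smul (secMap M (bO g.1))]
  rfl

variable (f : R) (M : ModuleCat.{u} R)

theorem mem_span_pow_iff (N : ModuleCat.{u} R) (n : ℕ) (x : N) :
    x ∈ Ideal.span {f} ^ n • (⊤ : Submodule R N) ↔ ∃ y, f ^ n • y = x := by
  rw [Ideal.span_singleton_pow, Submodule.ideal_span_singleton_smul, Submodule.mem_smul_pointwise_iff_exists]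
  simp

/-- sections of all `M/f^(n+1)M`, compatibly -/
noncomputable def limSec (U : (Spec R).Opens) : Submodule R (∀ n, Γ(tilde (qM (Ideal.span {f}) M n), U)) where
  carrier := {y | ∀ n, secTilde (qT (Ideal.span {f}) M (Nat.le_add_right n 1)) U (y (n + 1)) = y n}
  add_mem' := fun {a b} ha hb n => by
    show secTilde _ U (a (n + 1) + b (n + 1)) = a n + b n
    rw [map_add, ha n, hb n]
  zero_mem' := fun n => map_zero _
  smul_mem' := fun c a ha n => by
    show secTilde _ U (c • a (n + 1)) = c • a n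
    rw [map_smul, ha n]

/-- `M → lim Γ(U, M/f^(n+1)M)` -/
noncomputable def toLimSec (U : (Spec R).Opens) : M →ₗ[R] limSec f M U :=
  LinearMap.codRestrict _ (LinearMap.pi fun n => secTilde (qπ (Ideal.span {f}) M n) U ∘ₗ secMap M U)
    fun m n => by
      show secTilde _ U (secTilde _ U (secMap M U m)) = secTilde _ U (secMap M U m)
      rw [← secTilde_comp, qπ_qT]

theorem toLimSec_apply (U : (Spec R).Opens) (m : M) (n : ℕ) :
    (toLimSec f M U m).1 n = secMap (qM (Ideal.span {f}) M n) U ((qπ (Ideal.span {f}) M n).hom m) :=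
  secTilde_secMap _ U m

theorem qπ_eq_zero_iff (n : ℕ) (m : M) :
    (qπ (Ideal.span {f}) M n).hom m = 0 ↔ ∃ y, f ^ (n + 1) • y = m :=
  (Submodule.Quotient.mk_eq_zero _).trans (mem_span_pow_iff f M (n + 1) m)

/-- elements dying in all `M/f^n M` on `D(g)` die near `V(f) ∩ D(g)` -/
theorem exists_kill_of_secMap [IsNoetherianRing R] [Module.Finite R M] {p : Spec R} (hfp : f ∈ p.asIdeal)
    {g : R} (hgp : g ∉ p.asIdeal) (m : M)
    (h : ∀ n, secMap (qM (Ideal.span {f}) M n) (bO g) ((qπ (Ideal.span {f}) M n).hom m) = 0) :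
    ∃ t ∉ p.asIdeal, t • m = 0 := by
  refine exists_kill_of_mem_pow p.asIdeal f hfp m fun n => ?_
  obtain ⟨k, hk⟩ := (secMap_eq_zero_iff _ g _).1 (h n)
  rw [← map_smul] at hk
  obtain ⟨y, hy⟩ := (qπ_eq_zero_iff f M n _).1 hk
  exact ⟨g ^ k, fun hmem => hgp (p.isPrime.mem_of_pow_mem k hmem), f • y, by
    rw [← hy, smul_smul, ← pow_succ]⟩

theorem colimBij_inj [IsNoetherianRing R] [Module.Finite R M] (U V : (Spec R).Opens)
    (hV : Adm (Ideal.span {f}) U V) (x : Γ(tilde M, V))
    (hx : ∀ n, secTilde (qπ (Ideal.span {f}) M n) V x = 0) :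
    ∃ (V' : (Spec R).Opens) (h : Adm (Ideal.span {f}) U V' ∧ V' ≤ V), secRes _ h.2 x = 0 := by
  let S : Set R := {a | ∃ h : bO a ≤ V, secRes _ h x = 0}
  have hS : (⨆ a : S, bO a.1) ≤ V := iSup_le fun a => a.2.choose
  refine ⟨⨆ a : S, bO a.1, ⟨⟨hS.trans hV.1, fun p hp hpf => ?_⟩, hS⟩, ?_⟩
  · have hfp : f ∈ p.asIdeal := (PrimeSpectrum.mem_zeroLocus _ _).1 hpf (Ideal.mem_span_singleton_self f)
    obtain ⟨g, hpg, hgV⟩ := exists_basicOpen_le (hV.2 p hp hpf)
    obtain ⟨m, k, hk⟩ := exists_secMap_eq M g (secRes _ hgV x)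
    obtain ⟨t, ht, htm⟩ := exists_kill_of_secMap f M hfp hpg m fun n => by
      rw [← secTilde_secMap, ← hk, map_smul, ← secRes_secTilde, hx, map_zero, smul_zero]
    have hle : bO (g * t) ≤ V := (bO_mul_le_left g t).trans hgV
    refine Opens.mem_iSup.2 ⟨⟨g * t, hle, ?_⟩, ?_⟩
    · refine pow_smul_cancel (tilde M) (bO_mul_le_left g t) k ?_
      rw [smul_zero, ← secRes_secRes _ hgV (bO_mul_le_left g t), ← map_smul, hk, secRes_secMap]
      refine pow_smul_cancel (tilde M) (bO_mul_le_right g t) 1 ?_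
      rw [smul_zero, pow_one, ← map_smul, htm, map_zero]
    · rw [bO_mul]; exact ⟨hpg, ht⟩
  · refine sec_ext _ (fun a : S => bO a.1) (fun a => le_iSup (fun a : S => bO a.1) a)
      (fun p hp => Opens.mem_iSup.1 hp) fun a => ?_
    rw [map_zero, secRes_secRes]
    exact a.2.choose_spec

/-- `M/f^(n+1) → M/f^(n+2)`, multiplication by `f` -/
noncomputable abbrev mulF (n : ℕ) : qM (Ideal.span {f}) M n ⟶ qM (Ideal.span {f}) M (n + 1) :=
  qInd (scM f M) _ _ fun x hx => by
    obtain ⟨y, rfl⟩ := (mem_span_pow_iff f M (n + 1) x).1 hx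
    exact (mem_span_pow_iff f M (n + 1 + 1) _).2 ⟨y, by
      show f ^ (n + 1 + 1) • y = f • f ^ (n + 1) • y
      rw [smul_smul, ← pow_succ']⟩

theorem mulF_mk (n : ℕ) (m : M) :
    (mulF f M n).hom (Submodule.Quotient.mk m) = Submodule.Quotient.mk (f • m) := rfl

theorem mulF_injective (hreg : IsSMulRegular M f) (n : ℕ) : Function.Injective (mulF f M n).hom := by
  rw [injective_iff_map_eq_zero]
  intro x hx
  obtain ⟨m, rfl⟩ := Submodule.Quotient.mk_surjective _ x
  rw [mulF_mk, Submodule.Quotient.mk_eq_zero] at hx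
  obtain ⟨y, hy⟩ := (mem_span_pow_iff f M (n + 1 + 1) _).1 hx
  refine (Submodule.Quotient.mk_eq_zero _).2 ((mem_span_pow_iff f M (n + 1) _).2 ⟨y, hreg ?_⟩)
  show f • f ^ (n + 1) • y = f • m
  rw [smul_smul, ← pow_succ', hy]

theorem mulF_exact (n : ℕ) :
    Function.Exact (mulF f M n).hom (qT (Ideal.span {f}) M (Nat.zero_le (n + 1))).hom := by
  intro x
  obtain ⟨m, rfl⟩ := Submodule.Quotient.mk_surjective _ x
  constructor
  · intro hx
    obtain ⟨y, hy⟩ := (mem_span_pow_iff f M (0 + 1) m).1 ((Submodule.Quotient.mk_eq_zero _).1 hx)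
    exact ⟨Submodule.Quotient.mk y, by rw [mulF_mk, ← hy, zero_add, pow_one]⟩
  · rintro ⟨w, hw⟩
    obtain ⟨y, rfl⟩ := Submodule.Quotient.mk_surjective _ w
    rw [← hw, mulF_mk]
    exact (Submodule.Quotient.mk_eq_zero _).2 ((mem_span_pow_iff f M (0 + 1) _).2 ⟨y, by rw [zero_add, pow_one]; rfl⟩)

theorem qT_mulF (n : ℕ) :
    qT (Ideal.span {f}) M (Nat.le_add_right n 1) ≫ mulF f M n =
      scM f (qM (Ideal.span {f}) M (n + 1)) := by
  refine ModuleCat.hom_ext (Submodule.linearMap_qext _ ?_)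
  exact LinearMap.ext fun x => rfl

theorem mulF_qT (n : ℕ) :
    mulF f M (n + 1) ≫ qT (Ideal.span {f}) M (Nat.le_add_right (n + 1) 1) =
      qT (Ideal.span {f}) M (Nat.le_add_right n 1) ≫ mulF f M n :=
  qInd_square _ _ _ _ ((Category.comp_id _).trans (Category.id_comp _).symm) _ _ _ _ _ _ _ _

/-- the kernel of evaluation at level `0` -/
theorem exists_eq_smul_of_zero [IsNoetherianRing R] (hreg : IsSMulRegular M f) {U : (Spec R).Opens} (y : limSec f M U)
    (h0 : y.1 0 = 0) : ∃ z : limSec f M U, y = f • z := by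
  have hz : ∀ n, ∃ z, secTilde (mulF f M n) U z = y.1 (n + 1) := fun n =>
    sec_exists_preimage _ _ (mulF_injective f M hreg n) (mulF_exact f M n) _ (by
      rw [compat_le _ y.1 y.2, h0])
  choose z hz using hz
  have hmem : z ∈ limSec f M U := fun n => by
    have := (ModuleCat.mono_iff_injective (mulF f M n)).2 (mulF_injective f M hreg n)
    apply secTilde_injective (mulF f M n) U
    rw [← secTilde_comp, ← mulF_qT, secTilde_comp, hz, y.2, hz]
  refine ⟨⟨z, hmem⟩, Subtype.ext (funext fun n => ?_)⟩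
  rw [← y.2 n, ← hz n, ← secTilde_comp]
  show _ = f • z n
  rw [← secTilde_scM]
  congr 2
  refine ModuleCat.hom_ext (Submodule.linearMap_qext _ ?_)
  exact LinearMap.ext fun x => rfl

theorem smul_pow_eq_zero {U : (Spec R).Opens} (n : ℕ) (s : Γ(tilde (qM (Ideal.span {f}) M n), U)) :
    f ^ (n + 1) • s = 0 := by
  rw [← secTilde_scM]
  have : scM (f ^ (n + 1)) (qM (Ideal.span {f}) M n) = 0 := by
    refine ModuleCat.hom_ext (Submodule.linearMap_qext _ (LinearMap.ext fun x => ?_))
    exact (Submodule.Quotient.mk_eq_zero _).2 ((mem_span_pow_iff f M (n + 1) _).2 ⟨x, rfl⟩)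
  rw [this, secTilde_zero]

/-- `Γ(U, N~)` of the punctured spectrum, modulo `N`, injects into `H^1_I(N)` -/
theorem exists_secH1 [IsNoetherianRing R] (I : Ideal R) (N : ModuleCat.{u} R) :
    ∃ Φ : Γ(tilde N, pOpen I) →ₗ[R] (localCohomology I 1).obj N,
      LinearMap.ker Φ = LinearMap.range (secMap N (pOpen I)) := by
  obtain ⟨Φ, -, hk, hc⟩ := exists_H1_hom I N
  refine ⟨{ toFun := fun s => Φ ((hZero (pOpen I) N).symm s)
            map_add' := fun a b => by rw [map_add, map_add]
            map_smul' := fun c s => by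
              rw [RingHom.id_apply, ← hc]
              congr 1
              apply (hZero (pOpen I) N).injective
              rw [hZero_hMap, AddEquiv.apply_symm_apply, AddEquiv.apply_symm_apply, secTilde_scM] },
    le_antisymm (fun s hs => ?_) ?_⟩
  · obtain ⟨m, hm⟩ := (hk _).1 (LinearMap.mem_ker.1 hs)
    refine ⟨m, ?_⟩
    rw [← hZero_hOf, hm, AddEquiv.apply_symm_apply]
  · rintro _ ⟨m, rfl⟩
    refine LinearMap.mem_ker.2 ((hk _).2 ⟨m, ?_⟩)
    apply (hZero (pOpen I) N).injective
    rw [hZero_hOf, AddEquiv.apply_symm_apply]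

theorem finite_sections [IsNoetherianRing R] (I : Ideal R) (N : ModuleCat.{u} R) [Module.Finite R N]
    [Module.Finite R ((localCohomology I 1).obj N)] : Module.Finite R Γ(tilde N, pOpen I) := by
  obtain ⟨Φ, hΦ⟩ := exists_secH1 I N
  refine ⟨Submodule.fg_of_fg_map_of_fg_inf_ker Φ (IsNoetherian.noetherian _) ?_⟩
  rw [top_inf_eq, hΦ, LinearMap.range_eq_map]
  exact Module.Finite.fg_top.map _

theorem finite_limSec [IsNoetherianRing R] [Module.Finite R M] [IsAdicComplete (Ideal.span {f}) R] (hreg : IsSMulRegular M f)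
    (U : (Spec R).Opens) [Module.Finite R Γ(tilde (qM (Ideal.span {f}) M 0), U)] :
    Module.Finite R (limSec f M U) := by
  classical
  let e₀ : limSec f M U →ₗ[R] Γ(tilde (qM (Ideal.span {f}) M 0), U) :=
    LinearMap.proj 0 ∘ₗ (limSec f M U).subtype
  obtain ⟨T, hT⟩ := IsNoetherian.noetherian (LinearMap.range e₀)
  choose l hl using fun t : T => (show t.1 ∈ LinearMap.range e₀ from hT ▸ Submodule.subset_span t.2)
  suffices Submodule.span R (Set.range l) = ⊤ from
    ⟨this ▸ Submodule.fg_span (Set.finite_range l)⟩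
  -- one step
  have step : ∀ y : limSec f M U, ∃ (a : T → R) (z : limSec f M U), y = ∑ t, a t • l t + f • z := by
    intro y
    have hy : e₀ y ∈ Submodule.span R (Set.range fun t : T => (t : Γ(tilde (qM (Ideal.span {f}) M 0), U))) := by
      rw [Subtype.range_coe_subtype, Finset.setOf_mem, hT]
      exact LinearMap.mem_range_self _ _
    obtain ⟨a, ha⟩ := (Submodule.mem_span_range_iff_exists_fun R).1 hy
    obtain ⟨z, hz⟩ := exists_eq_smul_of_zero f M hreg (y - ∑ t, a t • l t) (by
      show e₀ (y - ∑ t, a t • l t) = 0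
      rw [map_sub, map_sum, ← ha, sub_eq_zero]
      exact Finset.sum_congr rfl fun t _ => by rw [map_smul, hl])
    exact ⟨a, z, by rw [← hz, add_sub_cancel]⟩
  choose a z hz using step
  refine eq_top_iff.2 fun y _ => ?_
  let ys : ℕ → limSec f M U := fun n => n.rec y fun _ w => z w
  have hys : ∀ n, y = ∑ t, (∑ j ∈ Finset.range n, f ^ j * a (ys j) t) • l t + f ^ n • ys n := by
    intro n
    induction n with
    | zero => simp [ys]
    | succ n ih =>
      simp only [Finset.sum_range_succ, add_smul, Finset.sum_add_distrib]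
      conv_lhs => rw [ih, hz (ys n)]
      rw [smul_add, Finset.smul_sum, smul_smul, ← pow_succ, add_assoc]
      simp only [smul_smul]
      rfl
  have hlim : ∀ t, ∃ L : R, ∀ n, ∃ c, L = ∑ j ∈ Finset.range n, f ^ j * a (ys j) t + f ^ n * c := by
    intro t
    obtain ⟨L, hL⟩ := IsPrecomplete.prec (inferInstance : IsPrecomplete (Ideal.span {f}) R)
      (f := fun n => ∑ j ∈ Finset.range n, f ^ j * a (ys j) t) fun {p q} hpq => by
        refine SModEq.symm (SModEq.sub_mem.2 ?_)
        rw [← Finset.sum_range_add_sum_Ico _ hpq, add_sub_cancel_left, smul_eq_mul, Ideal.mul_top]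
        refine Ideal.sum_mem _ fun j hj => Ideal.mul_mem_right _ _ ?_
        exact Ideal.pow_le_pow_right (Finset.mem_Ico.1 hj).1 (Ideal.pow_mem_pow (Ideal.mem_span_singleton_self f) j)
    refine ⟨L, fun n => ?_⟩
    have h1 := SModEq.sub_mem.1 (hL n).symm
    rw [smul_eq_mul, Ideal.mul_top, Ideal.span_singleton_pow, Ideal.mem_span_singleton'] at h1
    obtain ⟨c, hc⟩ := h1
    exact ⟨c, by rw [mul_comm, hc, add_sub_cancel]⟩
  choose L hL using hlim
  have : y = ∑ t, L t • l t := by
    refine Subtype.ext (funext fun n => ?_)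
    choose c hc using fun t => hL t (n + 1)
    rw [show ∑ t, L t • l t = ∑ t, ((∑ j ∈ Finset.range (n + 1), f ^ j * a (ys j) t) + f ^ (n + 1) * c t) • l t from
      Finset.sum_congr rfl fun t _ => by rw [← hc t]]
    conv_lhs => rw [hys (n + 1)]
    simp only [add_smul, mul_smul, Finset.sum_add_distrib, ← Finset.smul_sum, Submodule.coe_add,
      Submodule.coe_smul, Pi.add_apply, Pi.smul_apply, smul_pow_eq_zero]
  rw [this]
  exact Submodule.sum_mem _ fun t _ => Submodule.smul_mem _ _ (Submodule.subset_span ⟨t, rfl⟩)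

/-- `colim Γ(V, M~) = lim Γ(U, (M/f^n M)~)` on a punctured spectrum. -/
theorem colimBij_principal [IsNoetherianRing R] (I : Ideal R) [IsAdicComplete (Ideal.span {f}) R]
    [Module.Finite R M] (hreg : IsSMulRegular M f)
    [Module.Finite R ((localCohomology I 1).obj (qM (Ideal.span {f}) M 0))] :
    ColimBij (Ideal.span {f}) M (pOpen I) := by
  classical
  refine ⟨fun V hV x hx => colimBij_inj f M _ V hV x hx, fun y hy => ?_⟩
  have := finite_sections I (qM (Ideal.span {f}) M 0)
  have := finite_limSec f M hreg (pOpen I)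
  let ι := toLimSec f M (pOpen I)
  let y' : limSec f M (pOpen I) := ⟨y, hy⟩
  obtain ⟨K, hK⟩ := IsNoetherian.noetherian (LinearMap.ker ι)
  let S : Set R := {t | bO t ≤ pOpen I ∧ (∃ m, ι m = t • y') ∧ ∀ k ∈ K, t • k = 0}
  let V : (Spec R).Opens := ⨆ t : S, bO t.1
  have hVU : V ≤ pOpen I := iSup_le fun t => t.2.1
  have hV : Adm (Ideal.span {f}) (pOpen I) V := by
    refine ⟨hVU, fun p hp hpf => ?_⟩
    have hfp : f ∈ p.asIdeal := (PrimeSpectrum.mem_zeroLocus _ _).1 hpf (Ideal.mem_span_singleton_self f)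
    obtain ⟨g, hg, hgp⟩ := exists_mem_pOpen hp
    -- cokernel dies at `p`
    obtain ⟨t₁, ht₁, hty⟩ := exists_kill_of_div (Q := limSec f M (pOpen I) ⧸ LinearMap.range ι) p.asIdeal f hfp
      (fun q => by
        obtain ⟨w, rfl⟩ := Submodule.Quotient.mk_surjective _ q
        obtain ⟨k, m, hm⟩ := exists_pow_smul_eq_secMap (bO_le_pOpen hg) (w.1 0)
        obtain ⟨m₀, rfl⟩ := Submodule.Quotient.mk_surjective _ m
        obtain ⟨z, hz⟩ := exists_eq_smul_of_zero f M hreg (g ^ (k + 1) • w - ι m₀) (by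
          show g ^ (k + 1) • w.1 0 - (ι m₀).1 0 = 0
          rw [hm, toLimSec_apply]
          exact sub_self _)
        refine ⟨g ^ (k + 1), fun hmem => hgp (p.isPrime.mem_of_pow_mem _ hmem), Submodule.Quotient.mk z, ?_⟩
        rw [← Submodule.Quotient.mk_smul, ← Submodule.Quotient.mk_smul, Submodule.Quotient.eq, ← hz, sub_sub_cancel]
        exact LinearMap.mem_range_self _ _)
      (Submodule.Quotient.mk y')
    rw [← Submodule.Quotient.mk_smul, Submodule.Quotient.mk_eq_zero] at hty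
    obtain ⟨m, hm⟩ := hty
    -- kernel dies at `p`
    have hker : ∀ k : K, ∃ t ∉ p.asIdeal, t • (k : M) = 0 := fun k => by
      have hk0 : ι k.1 = 0 := LinearMap.mem_ker.1 (hK ▸ Submodule.subset_span k.2)
      refine exists_kill_of_secMap f M hfp hgp k.1 fun n => ?_
      rw [← secRes_secMap _ (bO_le_pOpen hg), ← toLimSec_apply, hk0]
      exact map_zero _
    choose t₂ ht₂ hk₂ using hker
    let t := g * t₁ * ∏ k, t₂ k
    have htp : t ∉ p.asIdeal := fun hmem => by
      rcases p.isPrime.mem_or_mem hmem with h | h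
      · rcases p.isPrime.mem_or_mem h with h | h
        exacts [hgp h, ht₁ h]
      · obtain ⟨k, -, hk⟩ := (Ideal.IsPrime.prod_mem_iff).1 h
        exact ht₂ k hk
    refine Opens.mem_iSup.2 ⟨⟨t, bO_le_pOpen (Ideal.mul_mem_right _ _ (Ideal.mul_mem_right _ _ hg)),
      ⟨(g * ∏ k, t₂ k) • m, by rw [map_smul, hm, smul_smul]; congr 1; ring⟩, fun k hk => ?_⟩, htp⟩
    rw [show t = (g * t₁ * ∏ j ∈ Finset.univ.erase ⟨k, hk⟩, t₂ j) * t₂ ⟨k, hk⟩ by
      simp only [t]; rw [← Finset.mul_prod_erase Finset.univ t₂ (Finset.mem_univ ⟨k, hk⟩)]; ring, mul_smul,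
      hk₂ ⟨k, hk⟩, smul_zero]
  choose m hm using fun t : S => t.2.2.1
  have hloc : ∀ t : S, ∃ x : Γ(tilde M, bO t.1), t.1 • x = secMap M (bO t.1) (m t) := fun t => by
    obtain ⟨x, hx⟩ := exists_pow_smul_eq (tilde M) (le_refl (bO t.1)) 1 (secMap M (bO t.1) (m t))
    exact ⟨x, by rwa [pow_one] at hx⟩
  choose x hx using hloc
  have hc : TopCat.Presheaf.IsCompatible (tilde M).presheaf (fun t : S => bO t.1) x := by
    intro a b
    change secRes (tilde M) inf_le_left (x a) = secRes (tilde M) inf_le_right (x b)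
    have hk : b.1 • m a - a.1 • m b ∈ LinearMap.ker ι := by
      rw [LinearMap.mem_ker, map_sub, map_smul, map_smul, hm, hm, smul_comm, sub_self]
    have h0 : a.1 • (b.1 • m a - a.1 • m b) = 0 := by
      rw [← hK] at hk
      exact Submodule.span_induction (p := fun k _ => a.1 • k = 0) a.2.2.2 (smul_zero _)
        (fun u v _ _ hu hv => by rw [smul_add, hu, hv, add_zero])
        (fun c u _ hu => by rw [smul_comm, hu, smul_zero]) hk
    refine pow_smul_cancel _ (inf_le_left : bO a.1 ⊓ bO b.1 ≤ bO a.1) 1 ?_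
    refine pow_smul_cancel _ (inf_le_right : bO a.1 ⊓ bO b.1 ≤ bO b.1) 1 ?_
    refine pow_smul_cancel _ (inf_le_left : bO a.1 ⊓ bO b.1 ≤ bO a.1) 1 ?_
    simp only [pow_one, ← map_smul (secRes (tilde M) (inf_le_left : bO a.1 ⊓ bO b.1 ≤ bO a.1)),
      smul_comm b.1 a.1, hx]
    rw [smul_comm a.1 b.1 (secRes _ _ (x b))]
    simp only [← map_smul (secRes (tilde M) (inf_le_right : bO a.1 ⊓ bO b.1 ≤ bO b.1))]
    rw [smul_comm b.1 a.1 (x b), smul_comm a.1 b.1, hx]
    simp only [← map_smul, secRes_secMap]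
    rw [← sub_eq_zero, ← map_sub, smul_comm b.1 a.1 (m a), ← smul_sub, h0, map_zero]
  obtain ⟨X, hX, -⟩ := TopCat.Sheaf.existsUnique_gluing' ⟨(tilde M).presheaf, (tilde M).isSheaf⟩
    (fun t : S => bO t.1) V (fun t => homOfLE (le_iSup (fun t : S => bO t.1) t)) le_rfl x hc
  refine ⟨V, hV, X, fun n => sec_ext _ (fun t : S => bO t.1) (fun t => le_iSup (fun t : S => bO t.1) t)
    (fun p hp => Opens.mem_iSup.1 hp) fun t => ?_⟩
  rw [secRes_secRes, secRes_secTilde,
    show secRes (tilde M) (le_iSup (fun t : S => bO t.1) t) X = x t from hX t]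
  refine pow_smul_cancel _ (le_refl (bO t.1)) 1 ?_
  rw [pow_one, ← map_smul (secTilde (qπ (Ideal.span {f}) M n) (bO t.1)), hx, secTilde_secMap, ← map_smul,
    ← secRes_secMap _ t.2.1, ← toLimSec_apply]
  have := congrArg (fun w : limSec f M (pOpen I) => w.1 n) (hm t)
  exact congrArg _ this.symm

end Groth.Agent.PunctCoh79
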