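import Groth.Agent.PunctCoh79.Sequence
import Groth.Agent.PunctCoh79.FormalSec
import Groth.Agent.LC.CohCech
import Groth.Agent.LC.CohTorsion

/-!
# `H^p(U, M~)` on the complement `U` of `V(I)` versus local cohomology
-/

universe u

open CategoryTheory CategoryTheory.Limits AlgebraicGeometry TopologicalSpace Opposite

namespace Groth.Agent.PunctCoh79

variable {R : CommRingCat.{u}}

/-- the complement of `V(I)` -/
def pOpen (I : Ideal R) : (Spec R).Opens :=
  ⟨(PrimeSpectrum.zeroLocus (R := R) (I : Set R))ᶜ, (PrimeSpectrum.isClosed_zeroLocus _).isOpen_compl⟩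

theorem bO_le_pOpen {I : Ideal R} {g : R} (hg : g ∈ I) : bO g ≤ pOpen I :=
  fun _ hp hz => hp ((PrimeSpectrum.mem_zeroLocus _ _).1 hz hg)

theorem exists_mem_pOpen {I : Ideal R} {p : Spec R} (hp : p ∈ pOpen I) : ∃ g ∈ I, p ∈ bO g := by
  obtain ⟨g, hg, hgp⟩ := Set.not_subset.1 (fun h => hp ((PrimeSpectrum.mem_zeroLocus _ _).2 h))
  exact ⟨g, hg, hgp⟩

theorem secMap_pOpen_eq_zero_iff [IsNoetherianRing R] (I : Ideal R) (M : ModuleCat.{u} R) (m : M) :
    secMap M (pOpen I) m = 0 ↔ m ∈ DRing.torsionSub I M := by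
  constructor
  · intro h
    let J : Ideal R :=
      { carrier := {a | a • m = 0}
        add_mem' := fun {a b} ha hb => show (a + b) • m = 0 by
          rw [add_smul, show a • m = 0 from ha, show b • m = 0 from hb, add_zero]
        zero_mem' := zero_smul R m
        smul_mem' := fun c a ha => show (c • a) • m = 0 by
          rw [smul_assoc, show a • m = 0 from ha, smul_zero] }
    have hrad : I ≤ J.radical := fun g hg => by
      obtain ⟨n, hn⟩ := (secMap_eq_zero_iff M g m).1 (by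
        show secMap M (bO g) m = 0
        rw [← secRes_secMap M (bO_le_pOpen hg), h, map_zero])
      exact ⟨n, hn⟩
    obtain ⟨n, hn⟩ := Ideal.exists_pow_le_of_le_radical_of_fg hrad (IsNoetherian.noetherian I)
    exact ⟨n, fun a ha => hn ha⟩
  · rintro ⟨n, hn⟩
    refine QCoh.eq_zero_of_locally _ _ fun p hp => ?_
    obtain ⟨g, hg, hgp⟩ := exists_mem_pOpen hp
    refine ⟨_, homOfLE (bO_le_pOpen hg), hgp, ?_⟩
    change secRes _ (bO_le_pOpen hg) (secMap M (pOpen I) m) = 0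
    rw [secRes_secMap]
    exact (secMap_eq_zero_iff M g m).2 ⟨n, hn _ (Ideal.pow_mem_pow hg n)⟩

variable (I : Ideal R) (i : ℕ)

/-- multiplication by a scalar -/
noncomputable abbrev scM (c : R) (M : ModuleCat.{u} R) : M ⟶ M := c • 𝟙 M

theorem scM_comp (c : R) {M N : ModuleCat.{u} R} (φ : M ⟶ N) : scM c M ≫ φ = φ ≫ scM c N :=
  ModuleCat.hom_ext (LinearMap.ext fun m => φ.hom.map_smul c m)

theorem hOf_eq_zero_iff [IsNoetherianRing R] (M : ModuleCat.{u} R) (m : M) :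
    hOf (pOpen I) M m = 0 ↔ m ∈ DRing.torsionSub I M := by
  rw [← secMap_pOpen_eq_zero_iff, ← hZero_hOf]
  exact (map_eq_zero_iff _ (hZero (pOpen I) M).injective).symm

theorem hMap_scM_hOf (V : (Spec R).Opens) (M : ModuleCat.{u} R) (c : R) (m : M) :
    hMap V 0 (scM c M) (hOf V M m) = hOf V M (c • m) := hMap_hOf V _ m

/-- An injective presentation `0 → M → E → Q → 0`. -/
theorem exists_presentation (M : ModuleCat.{u} R) :
    ∃ (S : ShortComplex (ModuleCat.{u} R)) (e : S.X₁ = M), S.ShortExact ∧ Injective S.X₂ :=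
  ⟨ShortComplex.mk (Injective.ι M) (cokernel.π _) (cokernel.condition _), rfl,
    { exact := ShortComplex.exact_cokernel _ }, inferInstanceAs (Injective (Injective.under M))⟩

/-- `coker(M → Γ(U, M~)) ≅ H^1_I(M)` -/
theorem exists_H1_hom [IsNoetherianRing R] (M : ModuleCat.{u} R) :
    ∃ Φ : cohV (pOpen I) 0 M →+ (localCohomology I 1).obj M, Function.Surjective Φ ∧
      (∀ x, Φ x = 0 ↔ x ∈ (hOf (pOpen I) M).range) ∧
      ∀ c x, Φ (hMap (pOpen I) 0 (scM c M) x) = c • Φ x := by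
  obtain ⟨S, rfl, hS, hE⟩ := exists_presentation M
  have hX : ∀ j, Subsingleton ((localCohomology I (j + 1)).obj S.X₂) := LC.subsingleton_of_injective I S.X₂
  have := hS.mono_f
  have := hS.epi_g
  have hgsurj := (ModuleCat.epi_iff_surjective S.g).1 inferInstance
  have hex := (ShortComplex.ShortExact.moduleCat_exact_iff_function_exact S).1 hS.exact
  have hlift : ∀ x : cohV (pOpen I) 0 S.X₁, ∃ e : S.X₂, hOf (pOpen I) S.X₂ e = hMap (pOpen I) 0 S.f x :=
    fun x => hOf_surjective_of_injective (pOpen I) S.X₂ _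
  choose σ hσ using hlift
  have htor : ∀ (x : cohV (pOpen I) 0 S.X₁) (e : S.X₂), hOf (pOpen I) S.X₂ e = hMap (pOpen I) 0 S.f x →
      S.g.hom e ∈ DRing.torsionSub I S.X₃ := fun x e he => by
    rw [← hOf_eq_zero_iff, ← hMap_hOf, he, ← hMap_comp, S.zero, hMap_zero]
  have key : ∀ (x : cohV (pOpen I) 0 S.X₁) (e : S.X₂) (he : hOf (pOpen I) S.X₂ e = hMap (pOpen I) 0 S.f x),
      LC.coker₁ I hS ⟨S.g.hom (σ x), htor x _ (hσ x)⟩ = LC.coker₁ I hS ⟨S.g.hom e, htor x e he⟩ := by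
    intro x e he
    rw [← sub_eq_zero, ← map_sub, LC.coker₁_eq_zero_iff]
    refine ⟨σ x - e, ?_, map_sub _ _ _⟩
    rw [← hOf_eq_zero_iff, map_sub, hσ, he, sub_self]
  let Φ : cohV (pOpen I) 0 S.X₁ →+ (localCohomology I 1).obj S.X₁ :=
    AddMonoidHom.mk' (fun x => LC.coker₁ I hS ⟨S.g.hom (σ x), htor x _ (hσ x)⟩) fun x y => by
      refine (key (x + y) (σ x + σ y) (by rw [map_add, map_add, hσ, hσ])).trans
        (Eq.trans ?_ (map_add (LC.coker₁ I hS) _ _))
      congr 1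
      exact Subtype.ext (map_add _ _ _)
  refine ⟨Φ, fun z => ?_, fun x => ⟨fun hx => ?_, ?_⟩, fun c x => ?_⟩
  · obtain ⟨⟨q, hq⟩, rfl⟩ := LC.coker₁_surjective I hS hX z
    obtain ⟨e, rfl⟩ := hgsurj q
    obtain ⟨x, hx⟩ := (hExact₂ (pOpen I) 0 hS (hOf (pOpen I) S.X₂ e)).1 (by
      rw [hMap_hOf]; exact (hOf_eq_zero_iff I _ _).2 hq)
    exact ⟨x, key x e hx.symm⟩
  · obtain ⟨e', he', hee⟩ := (LC.coker₁_eq_zero_iff I hS _).1 hx
    obtain ⟨m, hm⟩ := (hex (σ x - e')).1 (by rw [map_sub, hee]; exact sub_self _)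
    refine ⟨m, hMap_zero_injective (pOpen I) hS ?_⟩
    rw [hMap_hOf, hm, map_sub, hσ, (hOf_eq_zero_iff I _ _).2 he', sub_zero]
  · rintro ⟨m, rfl⟩
    show LC.coker₁ I hS _ = 0
    rw [key _ (S.f.hom m) (hMap_hOf _ _ m).symm, LC.coker₁_eq_zero_iff]
    exact ⟨0, zero_mem _, by rw [map_zero]; exact (hex.apply_apply_eq_zero m).symm⟩
  · show LC.coker₁ I hS _ = c • LC.coker₁ I hS _
    rw [key _ (c • σ x) (by rw [← hMap_scM_hOf, hσ, ← hMap_comp, ← hMap_comp, scM_comp]), ← map_smul]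
    congr 1
    exact Subtype.ext (map_smul _ _ _)

/-- `H^{p+1}(U, M~) ≅ H^{p+2}_I(M)`, compatibly with scalars -/
theorem exists_equiv [IsNoetherianRing R] (p : ℕ) : ∀ M : ModuleCat.{u} R,
    ∃ e : cohV (pOpen I) (p + 1) M ≃+ (localCohomology I (p + 2)).obj M,
      ∀ c x, e (hMap (pOpen I) (p + 1) (scM c M) x) = c • e x := by
  induction p with
  | zero =>
    intro M
    obtain ⟨S, rfl, hS, hE⟩ := exists_presentation M
    have hX : ∀ j, Subsingleton ((localCohomology I (j + 1)).obj S.X₂) := LC.subsingleton_of_injective I S.X₂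
    have := hS.epi_g
    obtain ⟨Φ, hΦs, hΦk, hΦc⟩ := exists_H1_hom I S.X₃
    let L := LC.shiftEquiv I hS hX 0
    have hδs : Function.Surjective (hδ (pOpen I) 0 hS (zero_add 1)) := fun y =>
      (hExact₁ (pOpen I) 0 hS (zero_add 1) y).1 ((subsingleton_cohV_of_injective (pOpen I) 0 S.X₂).elim _ _)
    obtain ⟨e, he⟩ := LC.exists_addEquiv_of_surjective (AddEquiv.refl _) (hδ (pOpen I) 0 hS (zero_add 1))
      (L.toLinearMap.toAddMonoidHom.comp Φ) hδs (L.surjective.comp hΦs) fun x => by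
        rw [hExact₃]
        change _ ↔ L (Φ x) = 0
        rw [LinearEquiv.map_eq_zero_iff, hΦk]
        constructor
        · rintro ⟨y, rfl⟩
          obtain ⟨e, rfl⟩ := hOf_surjective_of_injective (pOpen I) S.X₂ y
          exact ⟨_, (hMap_hOf _ _ e).symm⟩
        · rintro ⟨q, rfl⟩
          obtain ⟨e, rfl⟩ := (ModuleCat.epi_iff_surjective S.g).1 inferInstance q
          exact ⟨_, hMap_hOf _ _ e⟩
    refine ⟨e, fun c x => ?_⟩
    obtain ⟨y, rfl⟩ := hδs x
    let ψ : S ⟶ S := ShortComplex.homMk (scM c S.X₁) (scM c S.X₂) (scM c S.X₃)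
      (scM_comp c S.f) (scM_comp c S.g)
    rw [show hMap (pOpen I) 1 (scM c S.X₁) (hδ (pOpen I) 0 hS (zero_add 1) y) =
      hδ (pOpen I) 0 hS (zero_add 1) (hMap (pOpen I) 0 (scM c S.X₃) y) from
        hδ_natural (pOpen I) 0 hS hS ψ (zero_add 1) y, he, he]
    show L (Φ (hMap (pOpen I) 0 (scM c S.X₃) y)) = c • L (Φ y)
    rw [hΦc, map_smul]
  | succ p ih =>
    intro M
    obtain ⟨S, rfl, hS, hE⟩ := exists_presentation M
    have hX : ∀ j, Subsingleton ((localCohomology I (j + 1)).obj S.X₂) := LC.subsingleton_of_injective I S.X₂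
    obtain ⟨e, he⟩ := ih S.X₃
    let L := LC.shiftEquiv I hS hX (p + 1)
    let d : cohV (pOpen I) (p + 1) S.X₃ ≃+ cohV (pOpen I) (p + 2) S.X₁ :=
      AddEquiv.ofBijective (hδ (pOpen I) (p + 1) hS (j := p + 2) rfl) ⟨by
        rw [injective_iff_map_eq_zero]
        intro x hx
        obtain ⟨y, rfl⟩ := (hExact₃ (pOpen I) (p + 1) hS (j := p + 2) rfl x).1 hx
        rw [(subsingleton_cohV_of_injective (pOpen I) p S.X₂).elim y 0, map_zero], fun y =>
        (hExact₁ (pOpen I) (p + 1) hS (j := p + 2) rfl y).1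
          ((subsingleton_cohV_of_injective (pOpen I) (p + 1) S.X₂).elim _ _)⟩
    refine ⟨d.symm.trans (e.trans L.toAddEquiv), fun c x => ?_⟩
    obtain ⟨y, rfl⟩ := d.surjective x
    let ψ : S ⟶ S := ShortComplex.homMk (scM c S.X₁) (scM c S.X₂) (scM c S.X₃)
      (scM_comp c S.f) (scM_comp c S.g)
    rw [show hMap (pOpen I) (p + 1 + 1) (scM c S.X₁) (d y) = d (hMap (pOpen I) (p + 1) (scM c S.X₃) y) from
        hδ_natural (pOpen I) (p + 1) hS hS ψ (j := p + 2) rfl y]
    simp only [AddEquiv.trans_apply, AddEquiv.symm_apply_apply]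
    rw [he]
    exact L.map_smul c _

end Groth.Agent.PunctCoh79
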