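import Groth.Prelude.Def_Formal2
import Mathlib.Algebra.Homology.DerivedCategory.Ext.ExactSequences
import Mathlib.Algebra.Homology.DerivedCategory.Ext.EnoughInjectives
import Mathlib.CategoryTheory.Abelian.Ext

/-!
# `Ext` into countable products and limits of towers

For a class of objects stable under cosyzygies and for which products of the injective presentations
stay exact, `Ext^p(P, ∏ G_n) = ∏ Ext^p(P, G_n)`; whence the Milnor sequence of a tower.
-/

universe w v u

open CategoryTheory CategoryTheory.Limits CategoryTheory.Abelian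

namespace Groth.Agent.PunctCoh79.ExtTower

variable {C : Type u} [Category.{v} C] [Abelian C] [HasExt.{w} C] [HasProductsOfShape ℕ C]

/-- A class of objects with exact products of injective presentations. -/
structure IsProdExact (𝒜 : C → Prop) : Prop where
  cosyz : ∀ S : ShortComplex C, S.ShortExact → Injective S.X₂ → 𝒜 S.X₁ → 𝒜 S.X₃
  epi : ∀ S : ℕ → ShortComplex C, (∀ n, (S n).ShortExact) → (∀ n, 𝒜 (S n).X₁) →
    Epi (Limits.Pi.map fun n => (S n).g)

/-- product of short complexes -/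
noncomputable abbrev prodSeq (S : ℕ → ShortComplex C) : ShortComplex C :=
  ShortComplex.mk (Limits.Pi.map fun n => (S n).f) (Limits.Pi.map fun n => (S n).g)
    (limit.hom_ext fun ⟨n⟩ => by
      rw [Category.assoc]
      erw [Limits.Pi.map_π, ← Category.assoc, Limits.Pi.map_π, Category.assoc, (S n).zero, comp_zero,
        zero_comp])

theorem prodSeq_shortExact (S : ℕ → ShortComplex C) (hS : ∀ n, (S n).ShortExact)
    [Epi (Limits.Pi.map fun n => (S n).g)] : (prodSeq S).ShortExact := by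
  have := fun n => (hS n).mono_f
  have hm : Mono (Limits.Pi.map fun n => (S n).f) := inferInstance
  refine { exact := ShortComplex.exact_of_f_is_kernel _ ?_, mono_f := hm, epi_g := inferInstance }
  refine KernelFork.IsLimit.ofι _ _
    (fun {T} k hk => Pi.lift fun n => (hS n).exact.lift (k ≫ Pi.π _ n) ?_) (fun {T} k hk => ?_)
    (fun {T} k hk m hm' => ?_)
  · rw [Category.assoc, ← Limits.Pi.map_π (fun n => (S n).g) n, ← Category.assoc]
    exact (congrArg (· ≫ Pi.π _ n) hk).trans zero_comp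
  · refine limit.hom_ext fun ⟨n⟩ => ?_
    show ((Pi.lift fun n => (hS n).exact.lift (k ≫ Pi.π _ n) _) ≫ Limits.Pi.map fun n => (S n).f) ≫
      Pi.π (fun n => (S n).X₂) n = k ≫ Pi.π (fun n => (S n).X₂) n
    rw [Category.assoc, Limits.Pi.map_π, ← Category.assoc, limit.lift_π]
    exact (hS n).exact.lift_f _ _
  · refine limit.hom_ext fun ⟨n⟩ => ?_
    show m ≫ Pi.π (fun n => (S n).X₁) n = Pi.lift _ ≫ Pi.π (fun n => (S n).X₁) n
    rw [limit.lift_π, ← cancel_mono (S n).f, Category.assoc]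
    refine Eq.trans ?_ ((hS n).exact.lift_f _ _).symm
    rw [← Limits.Pi.map_π (fun n => (S n).f) n, ← Category.assoc]
    exact congrArg (· ≫ Pi.π (fun n => (S n).X₂) n) hm'

/-- projection from the product sequence -/
noncomputable abbrev prodSeqπ (S : ℕ → ShortComplex C) (n : ℕ) : prodSeq S ⟶ S n :=
  ShortComplex.homMk (Pi.π (fun n => (S n).X₁) n) (Pi.π (fun n => (S n).X₂) n) (Pi.π (fun n => (S n).X₃) n)
    (by exact (Limits.Pi.map_π (fun n => (S n).f) n).symm) (by exact (Limits.Pi.map_π (fun n => (S n).g) n).symm)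

/-- components of a class in a product -/
noncomputable def toPi (P : C) (G : ℕ → C) (p : ℕ) : Ext.{w} P (∏ᶜ G) p →+ (∀ n, Ext.{w} P (G n) p) where
  toFun x n := x.comp (Ext.mk₀ (Pi.π G n)) (add_zero p)
  map_zero' := by funext n; simp
  map_add' x y := funext fun n => Ext.add_comp x y _ _

theorem toPi_apply (P : C) (G : ℕ → C) (p : ℕ) (x : Ext.{w} P (∏ᶜ G) p) (n : ℕ) :
    toPi P G p x n = x.comp (Ext.mk₀ (Pi.π G n)) (add_zero p) := rfl

theorem toPi_zero_bijective (P : C) (G : ℕ → C) : Function.Bijective (toPi.{w} P G 0) := by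
  constructor
  · intro x y h
    obtain ⟨a, rfl⟩ := (Ext.mk₀_bijective _ _).2 x
    obtain ⟨b, rfl⟩ := (Ext.mk₀_bijective _ _).2 y
    congr 1
    refine limit.hom_ext fun ⟨n⟩ => (Ext.mk₀_bijective _ _).1 ?_
    have := congrFun h n
    rwa [toPi_apply, toPi_apply, Ext.mk₀_comp_mk₀, Ext.mk₀_comp_mk₀] at this
  · intro y
    choose a ha using fun n => (Ext.mk₀_bijective _ _).2 (y n)
    refine ⟨Ext.mk₀ (Pi.lift a), funext fun n => ?_⟩
    rw [toPi_apply, Ext.mk₀_comp_mk₀, limit.lift_π]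
    exact ha n

variable [EnoughInjectives C] {𝒜 : C → Prop}

theorem toPi_bijective (h𝒜 : IsProdExact 𝒜) (P : C) : ∀ (p : ℕ) (G : ℕ → C), (∀ n, 𝒜 (G n)) →
    Function.Bijective (toPi.{w} P G p) := by
  intro p
  induction p with
  | zero => exact fun G _ => toPi_zero_bijective P G
  | succ p ih =>
    intro G hG
    let S : ℕ → ShortComplex C := fun n =>
      ShortComplex.mk (Injective.ι (G n)) (cokernel.π _) (cokernel.condition _)
    have hS : ∀ n, (S n).ShortExact := fun n => { exact := ShortComplex.exact_cokernel _ }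
    have hI : ∀ n, Injective (S n).X₂ := fun n => inferInstanceAs (Injective (Injective.under (G n)))
    have := h𝒜.epi S hS hG
    have hP := prodSeq_shortExact S hS
    have hIP : Injective (prodSeq S).X₂ := inferInstanceAs (Injective (∏ᶜ fun n => (S n).X₂))
    have ih' := ih (fun n => (S n).X₃) fun n => h𝒜.cosyz (S n) (hS n) (hI n) (hG n)
    have hnat : ∀ n, hP.extClass.comp (Ext.mk₀ (prodSeqπ S n).τ₁) (add_zero 1) =
        (Ext.mk₀ (prodSeqπ S n).τ₃).comp (hS n).extClass (zero_add 1) :=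
      fun n => ShortComplex.ShortExact.extClass_naturality hP (hS n) (prodSeqπ S n)
    -- the boundary commutes with projections
    have hδ : ∀ (x : Ext.{w} P (prodSeq S).X₃ p) (n : ℕ),
        toPi P G (p + 1) (x.comp hP.extClass rfl) n =
          (toPi P (fun n => (S n).X₃) p x n).comp (hS n).extClass rfl := by
      intro x n
      rw [toPi_apply, toPi_apply]
      refine (Ext.comp_assoc_of_third_deg_zero x hP.extClass (Ext.mk₀ (prodSeqπ S n).τ₁) rfl).trans ?_
      rw [hnat, ← Ext.comp_assoc_of_second_deg_zero]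
      rfl
    refine ⟨(injective_iff_map_eq_zero _).2 fun z hz => ?_, fun y => ?_⟩
    · obtain ⟨x, rfl⟩ := Ext.covariant_sequence_exact₁ P hP z (Ext.eq_zero_of_injective _) rfl
      have hx : ∀ n, (toPi P (fun n => (S n).X₃) p x n).comp (hS n).extClass rfl = 0 := fun n => by
        rw [← hδ, hz]; rfl
      choose i hi using fun n => Ext.covariant_sequence_exact₃ P (hS n) _ rfl (hx n)
      obtain ⟨j, hj⟩ : ∃ j : Ext.{w} P (prodSeq S).X₂ p, toPi P (fun n => (S n).X₂) p j = i := by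
        cases p with
        | zero => exact (toPi_zero_bijective P _).2 i
        | succ p => exact ⟨0, funext fun n => by rw [map_zero]; exact (Ext.eq_zero_of_injective _).symm⟩
      have hxj : x = j.comp (Ext.mk₀ (prodSeq S).g) (add_zero p) := by
        refine ih'.1 (funext fun n => ?_)
        rw [← hi n, ← congrFun hj n, toPi_apply, toPi_apply]
        simp only [Ext.comp_assoc_of_third_deg_zero, Ext.mk₀_comp_mk₀]
        congr 2
        exact (Limits.Pi.map_π (fun n => (S n).g) n).symm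
      rw [hxj, Ext.comp_assoc_of_second_deg_zero, hP.comp_extClass, Ext.comp_zero]
    · choose x hx using fun n => Ext.covariant_sequence_exact₁ P (hS n) (y n) (Ext.eq_zero_of_injective _) rfl
      obtain ⟨x', hx'⟩ := ih'.2 x
      exact ⟨x'.comp hP.extClass rfl, funext fun n => by rw [hδ, hx', hx]⟩

section Milnor

variable (G : ℕ → C) (t : ∀ n, G (n + 1) ⟶ G n)

/-- `(x_n) ↦ (x_n - t x_{n+1})` -/
noncomputable def diffMap : ∏ᶜ G ⟶ ∏ᶜ G :=
  Pi.lift fun n => Pi.π G n - Pi.π G (n + 1) ≫ t n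

theorem diffMap_π (n : ℕ) : diffMap G t ≫ Pi.π G n = Pi.π G n - Pi.π G (n + 1) ≫ t n :=
  limit.lift_π _ _

/-- the transition maps on `Ext` -/
noncomputable def extT (P : C) (p n : ℕ) : Ext.{w} P (G (n + 1)) p →+ Ext.{w} P (G n) p :=
  (Ext.mk₀ (t n)).postcomp P (add_zero p)

theorem toPi_diffMap (P : C) (p : ℕ) (x : Ext.{w} P (∏ᶜ G) p) :
    toPi P G p (x.comp (Ext.mk₀ (diffMap G t)) (add_zero p)) =
      Formal2.towerDiff (fun n => Ext.{w} P (G n) p) (extT G t P p) (toPi P G p x) := by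
  funext n
  show (x.comp (Ext.mk₀ (diffMap G t)) (add_zero p)).comp (Ext.mk₀ (Pi.π G n)) (add_zero p) =
    x.comp (Ext.mk₀ (Pi.π G n)) (add_zero p) -
      (x.comp (Ext.mk₀ (Pi.π G (n + 1))) (add_zero p)).comp (Ext.mk₀ (t n)) (add_zero p)
  rw [Ext.comp_assoc_of_third_deg_zero, Ext.mk₀_comp_mk₀, diffMap_π, Ext.comp_assoc_of_third_deg_zero,
    Ext.mk₀_comp_mk₀, ← Ext.addEquiv₀_symm_apply, ← Ext.addEquiv₀_symm_apply, ← Ext.addEquiv₀_symm_apply,
    map_sub, sub_eq_add_neg, sub_eq_add_neg, Ext.comp_add, Ext.comp_neg]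

/-- The Milnor sequence. -/
theorem exists_milnor (h𝒜 : IsProdExact 𝒜) (hG : ∀ n, 𝒜 (G n)) {L : C} (π : ∀ n, L ⟶ G n)
    (hπ : ∀ n, π (n + 1) ≫ t n = π n)
    (hL : ∀ {T : C} (k : ∀ n, T ⟶ G n), (∀ n, k (n + 1) ≫ t n = k n) →
      ∃ l : T ⟶ L, ∀ n, l ≫ π n = k n)
    (hL' : ∀ {T : C} (l l' : T ⟶ L), (∀ n, l ≫ π n = l' ≫ π n) → l = l')
    [Epi (diffMap G t)] (P : C) (p : ℕ) :
    ∃ (α : Formal2.limOne (fun n => Ext.{w} P (G n) p) (extT G t P p) →+ Ext.{w} P L (p + 1))
      (β : Ext.{w} P L (p + 1) →+ Formal2.limZero (fun n => Ext.{w} P (G n) (p + 1)) (extT G t P (p + 1))),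
      Function.Injective α ∧ Function.Surjective β ∧ α.range = β.ker ∧
      ∀ (x : Ext.{w} P L (p + 1)) (n : ℕ),
        (β x : ∀ n, Ext.{w} P (G n) (p + 1)) n = x.comp (Ext.mk₀ (π n)) (add_zero (p + 1)) := by
  let ι : L ⟶ ∏ᶜ G := Pi.lift π
  have hιπ : ∀ n, ι ≫ Pi.π G n = π n := fun n => limit.lift_π _ _
  have hι : ι ≫ diffMap G t = 0 := limit.hom_ext fun ⟨n⟩ => by
    show (ι ≫ diffMap G t) ≫ Pi.π G n = 0 ≫ Pi.π G n
    rw [Category.assoc, diffMap_π, Preadditive.comp_sub, hιπ, ← Category.assoc, hιπ, hπ, sub_self, zero_comp]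
  have hmono : Mono ι := ⟨fun l l' h => hL' l l' fun n => by
    rw [← hιπ, ← Category.assoc, h, Category.assoc]⟩
  have hS : (ShortComplex.mk ι (diffMap G t) hι).ShortExact := by
    refine { exact := ShortComplex.exact_of_f_is_kernel _ ?_, mono_f := hmono, epi_g := inferInstance }
    refine KernelFork.IsLimit.ofι' _ _ fun {T} k hk => Classical.indefiniteDescription _ ?_
    obtain ⟨l, hl⟩ := hL (fun n => k ≫ Pi.π G n) fun n => by
      have := congrArg (· ≫ Pi.π G n) hk
      simp only [Category.assoc, diffMap_π, zero_comp, Preadditive.comp_sub, sub_eq_zero] at this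
      rw [Category.assoc]
      exact this.symm
    exact ⟨l, limit.hom_ext fun ⟨n⟩ => by
      show (l ≫ ι) ≫ Pi.π G n = k ≫ Pi.π G n
      rw [Category.assoc, hιπ, hl]⟩
  let e := AddEquiv.ofBijective (toPi.{w} P G p) (toPi_bijective h𝒜 P p G hG)
  let δ : Ext.{w} P (∏ᶜ G) p →+ Ext.{w} P L (p + 1) := hS.extClass.postcomp P rfl
  have hδD : ∀ y, δ (e.symm (Formal2.towerDiff (fun n => Ext.{w} P (G n) p) (extT G t P p) y)) = 0 := by
    intro y
    obtain ⟨x, rfl⟩ := e.surjective y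
    rw [show e x = toPi P G p x from rfl, ← toPi_diffMap,
      show toPi P G p (x.comp (Ext.mk₀ (diffMap G t)) (add_zero p)) = e _ from rfl, e.symm_apply_apply]
    show (x.comp (Ext.mk₀ (diffMap G t)) (add_zero p)).comp hS.extClass rfl = 0
    rw [Ext.comp_assoc_of_second_deg_zero, hS.comp_extClass, Ext.comp_zero]
  let α := QuotientAddGroup.lift (Formal2.towerDiff (fun n => Ext.{w} P (G n) p) (extT G t P p)).range
    (δ.comp e.symm.toAddMonoidHom) (by rintro _ ⟨y, rfl⟩; exact hδD y)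
  let β : Ext.{w} P L (p + 1) →+ Formal2.limZero (fun n => Ext.{w} P (G n) (p + 1)) (extT G t P (p + 1)) :=
    ((toPi P G (p + 1)).comp ((Ext.mk₀ ι).postcomp P (add_zero (p + 1)))).codRestrict _ fun x => by
      rw [AddMonoidHom.mem_ker]
      show Formal2.towerDiff _ _ (toPi P G (p + 1) (x.comp (Ext.mk₀ ι) (add_zero (p + 1)))) = 0
      rw [← toPi_diffMap, Ext.comp_assoc_of_third_deg_zero, Ext.mk₀_comp_mk₀, hι, Ext.mk₀_zero,
        Ext.comp_zero, map_zero]
  refine ⟨α, β, ?_, ?_, ?_, fun x n => ?_⟩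
  · rw [injective_iff_map_eq_zero]
    intro q hq
    obtain ⟨y, rfl⟩ := QuotientAddGroup.mk_surjective q
    obtain ⟨x, hx⟩ := Ext.covariant_sequence_exact₃ P hS (e.symm y) rfl hq
    refine (QuotientAddGroup.eq_zero_iff _).2 ⟨toPi P G p x, ?_⟩
    rw [← toPi_diffMap]
    exact (congrArg e hx).trans (e.apply_symm_apply y)
  · rintro ⟨y, hy⟩
    obtain ⟨z, rfl⟩ := (toPi_bijective h𝒜 P (p + 1) G hG).2 y
    obtain ⟨x, hx⟩ := Ext.covariant_sequence_exact₂ P hS z ((toPi_bijective h𝒜 P (p + 1) G hG).1 (by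
      rw [map_zero]
      exact (toPi_diffMap G t P (p + 1) z).trans hy))
    exact ⟨x, Subtype.ext (congrArg (toPi P G (p + 1)) hx)⟩
  · refine le_antisymm ?_ fun x hx => ?_
    · rintro _ ⟨q, rfl⟩
      obtain ⟨y, rfl⟩ := QuotientAddGroup.mk_surjective q
      refine Subtype.ext ?_
      show toPi P G (p + 1) (((e.symm y).comp hS.extClass rfl).comp (Ext.mk₀ ι) (add_zero (p + 1))) = 0
      rw [Ext.comp_assoc_of_third_deg_zero, hS.extClass_comp, Ext.comp_zero, map_zero]
    · obtain ⟨y, hy⟩ := Ext.covariant_sequence_exact₁ P hS x ((toPi_bijective h𝒜 P (p + 1) G hG).1 (by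
        rw [map_zero]; exact congrArg Subtype.val (AddMonoidHom.mem_ker.1 hx))) rfl
      exact ⟨QuotientAddGroup.mk (e y), (congrArg δ (e.symm_apply_apply y)).trans hy⟩
  · show (x.comp (Ext.mk₀ ι) (add_zero (p + 1))).comp (Ext.mk₀ (Pi.π G n)) (add_zero (p + 1)) = _
    rw [Ext.comp_assoc_of_third_deg_zero, Ext.mk₀_comp_mk₀, hιπ]

end Milnor

end Groth.Agent.PunctCoh79.ExtTower
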