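import Groth.Prelude.Def_CohTop
import Mathlib.CategoryTheory.Sites.LeftExact

/-!
# Short names for instances on sheaves of abelian groups on a space

All of these are propositions; naming them keeps the kernel from inferring the type of huge terms.
-/

universe u

open CategoryTheory TopologicalSpace

namespace Groth.Agent.PunctCoh79

instance (priority := high) hasSheafifyOpens (T : Type u) [TopologicalSpace T] :
    HasSheafify (Opens.grothendieckTopology T) AddCommGrpCat.{u} := inferInstance

instance (priority := high) isGrothendieckAbelianOpens (T : Type u) [TopologicalSpace T] :
    IsGrothendieckAbelian.{u} (Sheaf (Opens.grothendieckTopology T) AddCommGrpCat.{u}) :=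
  Sheaf.isGrothendieckAbelian_of_essentiallySmall _ _

instance (priority := high) hasExtOpens (T : Type u) [TopologicalSpace T] :
    HasExt.{u} (Sheaf (Opens.grothendieckTopology T) AddCommGrpCat.{u}) := inferInstance

end Groth.Agent.PunctCoh79
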