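import Groth.Prelude.Def_Formal2
import Groth.Prelude.Def_Wider
import Groth.Agent.PunctCoh79.Principal
import Groth.Agent.PunctCoh79.ColimBridge
import Groth.Agent.PunctCoh79.FastInst

/-!
# `FormalCohBijective` for punctured spectra
-/

universe u

open CategoryTheory CategoryTheory.Limits AlgebraicGeometry TopologicalSpace Opposite

namespace Groth.Agent.PunctCoh79

variable {A : Type u} [CommRing A] (V : (Spec (CommRingCat.of A)).Opens) (i : ℕ)
variable {M N : Type u} [AddCommGroup M] [Module A M] [AddCommGroup N] [Module A N]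

/-- the two models of `H^i(V, M~)` agree -/
noncomputable def hvEquiv (M : Type u) [AddCommGroup M] [Module A M] :
    Formal2.HV A M i V ≃+ cohV (R := CommRingCat.of A) V i (ModuleCat.of A M) where
  toFun x := x
  invFun x := x
  map_add' _ _ := rfl

theorem hvEquiv_map (φ : M →ₗ[A] N) (x : Formal2.HV A M i V) :
    hvEquiv V i N (Formal2.HVmap A φ i V x) =
      hMap (R := CommRingCat.of A) V i (ModuleCat.ofHom φ) (hvEquiv V i M x) := rfl

theorem formalCohBijective_of (I : Ideal A)
    (h : (∀ x : cohV (R := CommRingCat.of A) V i (ModuleCat.of A M),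
        (∀ n, hMap V i (qπ (R := CommRingCat.of A) I (ModuleCat.of A M) n) x = 0) → x = 0) ∧
      ∀ y : ∀ n, cohV (R := CommRingCat.of A) V i (qM (R := CommRingCat.of A) I (ModuleCat.of A M) n),
        (∀ n, hMap V i (qT (R := CommRingCat.of A) I (ModuleCat.of A M) (Nat.le_add_right n 1)) (y (n + 1)) = y n) →
          ∃ x, ∀ n, hMap V i (qπ (R := CommRingCat.of A) I (ModuleCat.of A M) n) x = y n) :
    Formal2.FormalCohBijective A I M i V := by
  refine ⟨fun x x' hxx => ?_, fun y hy => ?_⟩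
  · apply (hvEquiv V i M).injective
    rw [← sub_eq_zero, ← map_sub]
    refine h.1 _ fun n => ?_
    rw [← quotPowπ_eq, ← hvEquiv_map, map_sub, hxx n, sub_self, map_zero]
  · obtain ⟨x, hx⟩ := h.2 (fun n => hvEquiv V i _ (y n)) fun n => by
      rw [← quotPowTrans_eq, ← hvEquiv_map, hy n]
    refine ⟨(hvEquiv V i M).symm x, fun n => (hvEquiv V i _).injective ?_⟩
    rw [hvEquiv_map, AddEquiv.apply_symm_apply, quotPowπ_eq]
    exact hx n

theorem formalCohBijective_punctured [IsNoetherianRing A] (𝔞 : Ideal A) (f : A)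
    [IsAdicComplete (Ideal.span {f}) A] (M : Type u) [AddCommGroup M] [Module A M] [Module.Finite A M]
    (i : ℕ) (h₁ : ∃ n : ℕ, ∀ x : LocCoh.H 𝔞 (i + 1) M, f ^ n • x = 0)
    (h₂ : ∃ n : ℕ, ∀ x : LocCoh.H 𝔞 (i + 2) M, f ^ n • x = 0) :
    Formal2.FormalCohBijective A (Ideal.span {f}) M i (LocCoh.puncturedOpen A 𝔞) :=
  formalCohBijective_of _ i _ (lim_pOpen_bijective (R := CommRingCat.of A) 𝔞 f (ModuleCat.of A M) i h₁ h₂)

end Groth.Agent.PunctCoh79
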