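import Groth.Prelude.Def_Formal

/-!
# Multiplication by a scalar of the base on a module
-/

universe u

set_option backward.isDefEq.respectTransparency false
set_option backward.isDefEq.respectTransparency.types false

open CategoryTheory CategoryTheory.Limits AlgebraicGeometry Opposite TopologicalSpace

namespace Groth.Agent.PunctCoh79

variable {A : Type u} [CommRing A] {X : Scheme.{u}} [X.Over (Spec (CommRingCat.of A))]

theorem smulMod_naturality {M N : X.Modules} (φ : M ⟶ N) (a : A) :
    Formal.smulMod A M a ≫ φ = φ ≫ Formal.smulMod A N a := by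
  refine Scheme.Modules.hom_ext _ _ fun U => ?_
  ext m
  exact Scheme.Modules.Hom.app_smul φ _ m

theorem smulMod_app (M : X.Modules) (a : A) (U : X.Opens) (m : Γ(M, U)) :
    (Formal.smulMod A M a).app U m =
      (show Γ(X, U) from Coh.resTop X (op U) (Coh.toGlobal (X ↘ Spec (CommRingCat.of A)) a)) • m := rfl

theorem smulMod_one (M : X.Modules) : Formal.smulMod A M 1 = 𝟙 M := by
  refine Scheme.Modules.hom_ext _ _ fun U => ?_
  ext m
  refine (smulMod_app M 1 U m).trans ?_
  rw [map_one, map_one]
  exact one_smul _ m

theorem smulMod_zero (M : X.Modules) : Formal.smulMod A M 0 = 0 := by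
  refine Scheme.Modules.hom_ext _ _ fun U => ?_
  ext m
  refine (smulMod_app M 0 U m).trans ?_
  rw [map_zero, map_zero]
  exact zero_smul _ m

theorem smulMod_add (M : X.Modules) (a b : A) :
    Formal.smulMod A M (a + b) = Formal.smulMod A M a + Formal.smulMod A M b := by
  refine Scheme.Modules.hom_ext _ _ fun U => ?_
  ext m
  refine (smulMod_app M (a + b) U m).trans ?_
  rw [map_add, map_add]
  exact add_smul _ _ m

theorem smulMod_mul (M : X.Modules) (a b : A) :
    Formal.smulMod A M (a * b) = Formal.smulMod A M b ≫ Formal.smulMod A M a := by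
  refine Scheme.Modules.hom_ext _ _ fun U => ?_
  ext m
  refine (smulMod_app M (a * b) U m).trans ?_
  rw [map_mul, map_mul]
  exact mul_smul _ _ m

end Groth.Agent.PunctCoh79
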