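import Groth.Agent.PunctCoh79.LimSys
import Groth.Agent.PunctCoh79.SmulMod
import Groth.Agent.QCoh.DevissageIdeal
import Groth.Agent.Adic7.Limit

/-!
# `lim G_n` of an adic system of quasi-coherent modules has quotients `G_n`
-/

universe u

set_option backward.isDefEq.respectTransparency false
set_option backward.isDefEq.respectTransparency.types false

open CategoryTheory CategoryTheory.Limits AlgebraicGeometry TopologicalSpace Opposite
open CategoryTheory.Abelian

namespace Groth.Agent.PunctCoh79

variable {A : Type u} [CommRing A] {X : Scheme.{u}} [X.Over (Spec (CommRingCat.of A))]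

attribute [local instance] Abelian.hasFiniteBiproducts

/-- scalars on sections -/
noncomputable def secScalar (U : X.Opens) : A →+* Γ(X, U) :=
  (Coh.resTop X (op U)).comp (Coh.toGlobal (X ↘ Spec (CommRingCat.of A)))

/-- `Γ(U, M)` as an `A`-module -/
noncomputable abbrev secModule (M : X.Modules) (U : X.Opens) : Module A Γ(M, U) :=
  Module.compHom Γ(M, U) (secScalar U)

attribute [local instance] secModule

theorem smul_sec (M : X.Modules) (U : X.Opens) (a : A) (s : Γ(M, U)) :
    a • s = (Formal.smulMod A M a).app U s := rfl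

/-- maps of modules on sections -/
noncomputable def secLin {M N : X.Modules} (φ : M ⟶ N) (U : X.Opens) : Γ(M, U) →ₗ[A] Γ(N, U) where
  toFun := φ.app U
  map_add' := map_add _
  map_smul' a s := by
    show φ.app U (a • s) = a • φ.app U s
    rw [smul_sec, smul_sec]
    exact congr(($(PunctCoh79.smulMod_naturality φ a)).app U s)

theorem hom_eq_zero_of_affine {M N : X.Modules} (φ : M ⟶ N)
    (h : ∀ U : X.Opens, IsAffineOpen U → ∀ s, φ.app U s = 0) : φ = 0 := by
  refine Scheme.Modules.hom_ext _ _ fun U => ?_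
  ext s
  refine QCoh.eq_zero_of_locally U _ fun p hp => ?_
  obtain ⟨_, ⟨W, hW, rfl⟩, hpW, hWU⟩ := X.isBasis_affineOpens.exists_subset_of_mem_open hp U.2
  refine ⟨W, homOfLE hWU, hpW, ?_⟩
  rw [← QCoh.map_app_comm, h W hW]

theorem mem_ker_sections {J : Ideal A} (hJ : J.FG) {M N : X.Modules} (hM : Coh.IsQCoh M) (hN : Coh.IsQCoh N)
    (g : M ⟶ N) (h0 : Formal.smulFamily J M ≫ g = 0)
    (hex : (ShortComplex.mk (Formal.smulFamily J M) g h0).Exact) {U : X.Opens} (hU : IsAffineOpen U)
    (s : Γ(M, U)) (hs : g.app U s = 0) : s ∈ J • (⊤ : Submodule A Γ(M, U)) := by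
  obtain ⟨S, hS⟩ := hJ
  subst hS
  have hg : ∀ a ∈ Ideal.span (S : Set A), Formal.smulMod A M a ≫ g = 0 := fun a ha => by
    have := congrArg (Sigma.ι (fun _ : ↥(Ideal.span (S : Set A)) => M) ⟨a, ha⟩ ≫ ·) h0
    simp only [comp_zero] at this
    rwa [← Category.assoc, Formal.smulFamily, Sigma.ι_desc] at this
  let ψ : (⨁ fun _ : S => M) ⟶ kernel g :=
    biproduct.desc fun a => kernel.lift g (Formal.smulMod A M a.1) (hg a.1 (Ideal.subset_span a.2))
  have hψ : Epi ψ := by
    refine Preadditive.epi_of_cancel_zero _ fun {Z} v hv => ?_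
    have hall : ∀ a (ha : a ∈ Ideal.span (S : Set A)), kernel.lift g (Formal.smulMod A M a) (hg a ha) ≫ v = 0 := by
      intro a ha
      induction ha using Submodule.span_induction with
      | mem x hx =>
        have := congrArg (biproduct.ι (fun _ : S => M) ⟨x, hx⟩ ≫ ·) hv
        simpa only [ψ, biproduct.ι_desc_assoc, comp_zero] using this
      | zero =>
        rw [show kernel.lift g (Formal.smulMod A M 0) (hg 0 (zero_mem _)) = 0 from
          (cancel_mono (kernel.ι g)).1 (by rw [kernel.lift_ι, PunctCoh79.smulMod_zero, zero_comp]), zero_comp]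
      | add x y hx hy ihx ihy =>
        rw [show kernel.lift g (Formal.smulMod A M (x + y)) (hg _ (add_mem hx hy)) =
            kernel.lift g (Formal.smulMod A M x) (hg x hx) + kernel.lift g (Formal.smulMod A M y) (hg y hy) from
          (cancel_mono (kernel.ι g)).1 (by
            rw [Preadditive.add_comp, kernel.lift_ι, kernel.lift_ι, kernel.lift_ι, PunctCoh79.smulMod_add]),
          Preadditive.add_comp, ihx, ihy, add_zero]
      | smul c x hx ih =>
        rw [show kernel.lift g (Formal.smulMod A M (c • x)) (hg _ (Submodule.smul_mem _ c hx)) =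
            Formal.smulMod A M c ≫ kernel.lift g (Formal.smulMod A M x) (hg x hx) from
          (cancel_mono (kernel.ι g)).1 (by
            rw [Category.assoc, kernel.lift_ι, kernel.lift_ι, smul_eq_mul, mul_comm, PunctCoh79.smulMod_mul]),
          Category.assoc, ih, comp_zero]
    have : Epi (kernel.lift g (Formal.smulFamily (Ideal.span (S : Set A)) M) h0) := hex.epi_kernelLift
    rw [← cancel_epi (kernel.lift g (Formal.smulFamily (Ideal.span (S : Set A)) M) h0), comp_zero]
    refine Sigma.hom_ext _ _ fun a => ?_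
    rw [comp_zero, ← Category.assoc,
      show Sigma.ι (fun _ : ↥(Ideal.span (S : Set A)) => M) a ≫
          kernel.lift g (Formal.smulFamily (Ideal.span (S : Set A)) M) h0 =
        kernel.lift g (Formal.smulMod A M a.1) (hg a.1 a.2) from (cancel_mono (kernel.ι g)).1 (by
          rw [Category.assoc, kernel.lift_ι, kernel.lift_ι, Formal.smulFamily, Sigma.ι_desc]), hall _ a.2]
  have hK : Coh.IsQCoh (kernel g) := QCoh.isQCoh_kernel hM hN g
  have hseq : (ShortComplex.mk (kernel.ι ψ) ψ (kernel.condition ψ)).ShortExact :=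
    { exact := ShortComplex.exact_of_f_is_kernel _ (kernelIsKernel ψ) }
  obtain ⟨k, hk⟩ := QCoh.exists_kernel_lift g U s hs
  obtain ⟨x, rfl⟩ := QCoh.app_surjective_of_shortExact hseq
    (QCoh.isQCoh_kernel (QCoh.isQCoh_biproduct _ fun _ => hM) hK ψ) hU k
  rw [← hk, QCoh.biproduct_desc_app, map_sum]
  refine Submodule.sum_mem _ fun a _ => ?_
  rw [show (kernel.ι g).app U ((kernel.lift g (Formal.smulMod A M a.1) (hg a.1 (Ideal.subset_span a.2))).app U
      ((biproduct.π (fun _ : S => M) a).app U x)) = (a.1 : A) • (biproduct.π (fun _ : S => M) a).app U x from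
    congr(($(kernel.lift_ι g _ (hg a.1 (Ideal.subset_span a.2)))).app U _)]
  exact Submodule.smul_mem_smul (Ideal.subset_span a.2) Submodule.mem_top

theorem exact_step {I : Ideal A} {G : ℕᵒᵖ ⥤ X.Modules} (hG : Formal2.IsQCohFormal I G) (n : ℕ) :
    ∃ h : Formal.smulFamily (I ^ (n + 1)) (G.obj (op (n + 1))) ≫ G.map (homOfLE (Nat.le_succ n)).op = 0,
      (ShortComplex.mk _ _ h).Exact := by
  obtain ⟨h, hiso⟩ := hG.2.2 n
  refine ⟨h, ShortComplex.exact_of_g_is_cokernel _ ?_⟩
  exact IsColimit.ofIsoColimit (cokernelIsCokernel _)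
    (Cofork.ext (asIso (cokernel.desc _ _ h)) (cokernel.π_desc _ _ _))

/-- sections as homomorphisms from the free sheaf -/
noncomputable def toHom (M : X.Modules) (U : X.Opens) : Γ(M, U) ≃+ (freeOp U ⟶ Coh.toAb M) :=
  (SiteBase.secEquiv (Opens.grothendieckTopology X) U (Coh.toAb M)).symm

theorem toHom_app {M N : X.Modules} (φ : M ⟶ N) (U : X.Opens) (s : Γ(M, U)) :
    toHom N U (φ.app U s) = toHom M U s ≫ (SheafOfModules.toSheaf X.ringCatSheaf).map φ := by
  apply (toHom N U).symm.injective
  rw [AddEquiv.symm_apply_apply]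
  refine Eq.trans ?_ (SiteBase.secEquiv_comp (J := Opens.grothendieckTopology X) U
    (toHom M U s) ((SheafOfModules.toSheaf X.ringCatSheaf).map φ)).symm
  refine Eq.trans ?_ (congrArg (((SheafOfModules.toSheaf X.ringCatSheaf).map φ).hom.app (op U)).hom
    ((SiteBase.secEquiv (Opens.grothendieckTopology X) U (Coh.toAb M)).apply_symm_apply s)).symm
  rfl

theorem sec_limit_ext {G : ℕᵒᵖ ⥤ X.Modules} {U : X.Opens} (x : Γ(limit G, U))
    (h : ∀ n, (limit.π G (op n)).app U x = 0) : x = 0 := by
  have := SiteBase.preservesLimitsOfSize_toSheaf X.ringCatSheaf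
  have : PreservesLimitsOfSize.{0, 0} (SheafOfModules.toSheaf X.ringCatSheaf) :=
    preservesLimitsOfSize_shrink.{0, u, 0, u} _
  let hlim := isLimitOfPreserves (SheafOfModules.toSheaf X.ringCatSheaf) (limit.isLimit G)
  apply (toHom (limit G) U).injective
  rw [map_zero]
  refine hlim.hom_ext fun n => ?_
  refine Eq.trans ?_ zero_comp.symm
  refine (toHom_app (limit.π G (op n.unop)) U x).symm.trans ?_
  rw [h n.unop, map_zero]

theorem sec_limit_lift {G : ℕᵒᵖ ⥤ X.Modules} {U : X.Opens} (y : ∀ n, Γ(G.obj (op n), U))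
    (hy : ∀ n, (G.map (homOfLE (Nat.le_succ n)).op).app U (y (n + 1)) = y n) :
    ∃ x : Γ(limit G, U), ∀ n, (limit.π G (op n)).app U x = y n := by
  have := SiteBase.preservesLimitsOfSize_toSheaf X.ringCatSheaf
  have : PreservesLimitsOfSize.{0, 0} (SheafOfModules.toSheaf X.ringCatSheaf) :=
    preservesLimitsOfSize_shrink.{0, u, 0, u} _
  let hlim := isLimitOfPreserves (SheafOfModules.toSheaf X.ringCatSheaf) (limit.isLimit G)
  let c : Cone (G ⋙ SheafOfModules.toSheaf X.ringCatSheaf) :=
    { pt := freeOp U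
      π := NatTrans.ofOpSequence (fun n => toHom (G.obj (op n)) U (y n)) fun n => by
        refine (Category.id_comp _).trans ?_
        exact ((congrArg (toHom (G.obj (op n)) U) (hy n)).symm.trans (toHom_app _ U (y (n + 1)))) }
  refine ⟨(toHom (limit G) U).symm (hlim.lift c), fun n => (toHom (G.obj (op n)) U).injective ?_⟩
  refine (toHom_app (limit.π G (op n)) U _).trans ?_
  rw [AddEquiv.apply_symm_apply]
  exact hlim.fac c (op n)

theorem ker_limit_π {I : Ideal A} (hI : I.FG) {G : ℕᵒᵖ ⥤ X.Modules} (hG : Formal2.IsQCohFormal I G)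
    {U : X.Opens} (hU : IsAffineOpen U) (n : ℕ) :
    Function.Surjective (secLin (A := A) (limit.π G (op n)) U) ∧
      LinearMap.ker (secLin (A := A) (limit.π G (op n)) U) = I ^ (n + 1) • ⊤ := by
  have hepi := epi_of_isQCohFormal hG
  refine (Adic7.limit_quotient_system A I hI (fun n => Γ(G.obj (op n), U))
    (fun n => secLin (G.map (homOfLE (Nat.le_succ n)).op) U) (fun n => ?_) (fun n => le_antisymm ?_ ?_)
    Γ(limit G, U) (fun n => secLin (limit.π G (op n)) U) (fun n => ?_) (fun x hx => ?_) (fun y hy => ?_)).2.1 n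
  · intro s
    obtain ⟨ψ, hψ⟩ := exists_lift_trans G hG.1 hepi hU n (toHom (G.obj (op n)) U s)
    refine ⟨(toHom (G.obj (op (n + 1))) U).symm ψ, (toHom (G.obj (op n)) U).injective ?_⟩
    refine (toHom_app (G.map (homOfLE (Nat.le_succ n)).op) U _).trans ?_
    rw [AddEquiv.apply_symm_apply]
    exact hψ
  · intro s hs
    obtain ⟨h0, hex⟩ := exact_step hG n
    exact mem_ker_sections (Submodule.FG.pow hI (n + 1)) (hG.1 (n + 1)) (hG.1 n) _ h0 hex hU s hs
  · refine Submodule.smul_le.2 fun a ha s _ => ?_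
    rw [LinearMap.mem_ker, map_smul, smul_sec, hG.2.1 n a ha]
    rfl
  · refine LinearMap.ext fun s => ?_
    exact congr(($(limit.w G (homOfLE (Nat.le_succ n)).op)).app U s)
  · exact sec_limit_ext x hx
  · exact sec_limit_lift y hy

theorem isQuot_limit_π {I : Ideal A} (hI : I.FG) {G : ℕᵒᵖ ⥤ X.Modules} (hG : Formal2.IsQCohFormal I G) (n : ℕ) :
    ∃ h : Formal.smulFamily (I ^ (n + 1)) (limit G) ≫ limit.π G (op n) = 0,
      IsIso (cokernel.desc _ _ h) := by
  have hepi : Epi (limit.π G (op n)) := by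
    have : Epi ((SheafOfModules.toSheaf X.ringCatSheaf).map (limit.π G (op n))) := epi_of_lift _ fun U hU φ => by
      obtain ⟨x, hx⟩ := (ker_limit_π (A := A) hI hG hU n).1 ((toHom (G.obj (op n)) U).symm φ)
      refine ⟨toHom (limit G) U x, ?_⟩
      refine ((toHom_app (limit.π G (op n)) U x).symm.trans ?_)
      exact (congrArg (toHom (G.obj (op n)) U) hx).trans ((toHom (G.obj (op n)) U).apply_symm_apply φ)
    exact (SheafOfModules.toSheaf X.ringCatSheaf).epi_of_epi_map this
  have h : Formal.smulFamily (I ^ (n + 1)) (limit G) ≫ limit.π G (op n) = 0 := by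
    refine Sigma.hom_ext _ _ fun a => ?_
    rw [comp_zero, ← Category.assoc, Formal.smulFamily, Sigma.ι_desc, PunctCoh79.smulMod_naturality,
      hG.2.1 n a.1 a.2, comp_zero]
  refine ⟨h, ?_⟩
  let q := cokernel.π (Formal.smulFamily (I ^ (n + 1)) (limit G))
  have hq : kernel.ι (limit.π G (op n)) ≫ q = 0 := hom_eq_zero_of_affine _ fun U hU s => by
    let t := (kernel.ι (limit.π G (op n))).app U s
    have ht : t ∈ I ^ (n + 1) • (⊤ : Submodule A Γ(limit G, U)) := by
      rw [← (ker_limit_π (A := A) hI hG hU n).2]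
      exact congr(($(kernel.condition (limit.π G (op n)))).app U s)
    show secLin (A := A) q U t = 0
    refine (show I ^ (n + 1) • (⊤ : Submodule A Γ(limit G, U)) ≤ LinearMap.ker (secLin q U) from
      Submodule.smul_le.2 fun a ha m _ => ?_) ht
    rw [LinearMap.mem_ker, smul_sec]
    have e0 : Formal.smulMod A (limit G) a ≫ q = 0 := by
      have := congrArg (Sigma.ι (fun _ : ↥(I ^ (n + 1)) => limit G) ⟨a, ha⟩ ≫ ·)
        (cokernel.condition (Formal.smulFamily (I ^ (n + 1)) (limit G)))
      simp only [comp_zero] at this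
      rwa [← Category.assoc, Formal.smulFamily, Sigma.ι_desc] at this
    exact congr(($e0).app U m)
  have hex : (ShortComplex.mk (kernel.ι (limit.π G (op n))) (limit.π G (op n)) (kernel.condition _)).Exact :=
    ShortComplex.exact_of_f_is_kernel _ (kernelIsKernel _)
  haveI : Epi (ShortComplex.mk (kernel.ι (limit.π G (op n))) (limit.π G (op n)) (kernel.condition _)).g := hepi
  have hψ : limit.π G (op n) ≫ hex.desc q hq = q := hex.g_desc q hq
  refine ⟨hex.desc q hq, ?_, ?_⟩
  · rw [← cancel_epi q, ← Category.assoc, cokernel.π_desc, hψ, Category.comp_id]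
  · rw [← cancel_epi (limit.π G (op n)), ← Category.assoc, hψ, Category.comp_id]
    exact cokernel.π_desc _ _ _

end Groth.Agent.PunctCoh79
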