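import Groth.Agent.PunctCoh79.FastInst
import Groth.Agent.PunctCoh79.ExtTower
import Groth.Agent.SiteBase.AbSecExact
import Groth.Agent.SiteBase.ModColim
import Groth.Agent.QCoh.Bound
import Groth.Agent.QCoh.HHExact
import Groth.Agent.QCoh.Sections
import Groth.Prelude.Def_CohCx

/-!
# Limits of systems of quasi-coherent modules with surjective transition maps
-/

universe u

open CategoryTheory CategoryTheory.Limits AlgebraicGeometry TopologicalSpace Opposite
open CategoryTheory.Abelian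

namespace Groth.Agent.PunctCoh79

variable {X : Scheme.{u}}

/-- free abelian sheaf on an open -/
noncomputable abbrev freeOp (U : X.Opens) : Sheaf (Opens.grothendieckTopology X) AddCommGrpCat.{u} :=
  CohCx.freeSheaf (Opens.grothendieckTopology X) U

/-- acyclic on every affine open -/
def AffAcyclic (F : Sheaf (Opens.grothendieckTopology X) AddCommGrpCat.{u}) : Prop :=
  ∀ U : X.Opens, IsAffineOpen U → ∀ q : ℕ, Subsingleton (Ext.{u} (freeOp U) F (q + 1))

theorem epi_of_lift {F G : Sheaf (Opens.grothendieckTopology X) AddCommGrpCat.{u}} (f : F ⟶ G)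
    (h : ∀ U : X.Opens, IsAffineOpen U → ∀ φ : freeOp U ⟶ G, ∃ ψ : freeOp U ⟶ F, ψ ≫ f = φ) : Epi f := by
  refine (Sheaf.isLocallySurjective_iff_epi' (A := AddCommGrpCat.{u}) f).1 ⟨fun {V} z x hx => ?_⟩
  obtain ⟨_, ⟨W, hW, rfl⟩, hxW, hWV⟩ := X.isBasis_affineOpens.exists_subset_of_mem_open hx V.2
  obtain ⟨ψ, hψ⟩ := h W hW ((SiteBase.secEquiv _ W G).symm (G.obj.map (homOfLE hWV).op z))
  refine ⟨W, homOfLE hWV, ⟨SiteBase.secEquiv _ W F ψ, ?_⟩, hxW⟩
  have e := congrArg (SiteBase.secEquiv _ W G) hψ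
  rw [AddEquiv.apply_symm_apply, SiteBase.secEquiv_comp] at e
  exact e

theorem isProdExact : ExtTower.IsProdExact (AffAcyclic (X := X)) where
  cosyz S hS hI hA U hU q := subsingleton_of_forall_eq 0 fun x => by
    obtain ⟨y, rfl⟩ := Ext.covariant_sequence_exact₃ _ hS x rfl ((hA U hU (q + 1)).elim _ _)
    rw [Ext.eq_zero_of_injective y, Ext.zero_comp]
  epi S hS hA := epi_of_lift _ fun U hU φ => by
    have hl : ∀ n, ∃ ψ : freeOp U ⟶ (S n).X₂, ψ ≫ (S n).g = φ ≫ Pi.π (fun n => (S n).X₃) n := fun n => by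
      obtain ⟨y, hy⟩ := Ext.covariant_sequence_exact₃ _ (hS n) (Ext.mk₀ (φ ≫ Pi.π (fun n => (S n).X₃) n))
        rfl ((hA n U hU 0).elim _ _)
      obtain ⟨ψ, rfl⟩ := (Ext.mk₀_bijective _ _).2 y
      exact ⟨ψ, (Ext.mk₀_bijective _ _).1 ((Ext.mk₀_comp_mk₀ _ _).symm.trans hy)⟩
    choose ψ hψ using hl
    refine ⟨Pi.lift ψ, limit.hom_ext fun ⟨n⟩ => ?_⟩
    show (Pi.lift ψ ≫ Limits.Pi.map fun n => (S n).g) ≫ Pi.π (fun n => (S n).X₃) n =
      φ ≫ Pi.π (fun n => (S n).X₃) n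
    rw [Category.assoc, Limits.Pi.map_π, ← Category.assoc, limit.lift_π]
    exact hψ n

theorem affAcyclic_of_isQCoh {M : X.Modules} (hM : Coh.IsQCoh M) : AffAcyclic (Coh.toAb M) :=
  fun _ hU q => QCoh.subsingleton_HU_of_isAffineOpen hM hU q

variable (G : ℕᵒᵖ ⥤ X.Modules)

/-- terms of the system as abelian sheaves -/
noncomputable abbrev abG (n : ℕ) : Sheaf (Opens.grothendieckTopology X) AddCommGrpCat.{u} :=
  Coh.toAb (G.obj (op n))

/-- transition maps as maps of abelian sheaves -/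
noncomputable abbrev abT (n : ℕ) : abG G (n + 1) ⟶ abG G n :=
  (SheafOfModules.toSheaf _).map (G.map (homOfLE (Nat.le_succ n)).op)

/-- projections from the limit -/
noncomputable abbrev abπ (n : ℕ) : Coh.toAb (limit G) ⟶ abG G n :=
  (SheafOfModules.toSheaf _).map (limit.π G (op n))

variable (hqc : ∀ n, Coh.IsQCoh (G.obj (op n))) (hepi : ∀ n, Epi (G.map (homOfLE (Nat.le_succ n)).op))
include hqc hepi

theorem exists_lift_trans {U : X.Opens} (hU : IsAffineOpen U) (n : ℕ) (φ : freeOp U ⟶ abG G n) :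
    ∃ ψ : freeOp U ⟶ abG G (n + 1), ψ ≫ abT G n = φ := by
  have := hepi n
  let g := G.map (homOfLE (Nat.le_succ n)).op
  have hS : (ShortComplex.mk (kernel.ι g) g (kernel.condition g)).ShortExact :=
    { exact := ShortComplex.exact_of_f_is_kernel _ (kernelIsKernel g) }
  obtain ⟨s, hs⟩ := QCoh.app_surjective_of_shortExact hS (QCoh.isQCoh_kernel (hqc _) (hqc _) g) hU
    (SiteBase.secEquiv (Opens.grothendieckTopology X) U (abG G n) φ)
  refine ⟨(SiteBase.secEquiv _ U (abG G (n + 1))).symm s, (SiteBase.secEquiv _ U (abG G n)).injective ?_⟩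
  rw [SiteBase.secEquiv_comp, AddEquiv.apply_symm_apply]
  exact hs

theorem exists_lift_diff {U : X.Opens} (hU : IsAffineOpen U) (φ : freeOp U ⟶ ∏ᶜ abG G) :
    ∃ ψ : freeOp U ⟶ ∏ᶜ abG G, ψ ≫ ExtTower.diffMap (abG G) (abT G) = φ := by
  choose l hl using exists_lift_trans G hqc hepi hU
  let ψ : ∀ n, freeOp U ⟶ abG G n := fun n =>
    n.rec (motive := fun n => freeOp U ⟶ abG G n) 0 fun n ψn => l n (ψn - φ ≫ Pi.π (abG G) n)
  refine ⟨Pi.lift ψ, limit.hom_ext fun ⟨n⟩ => ?_⟩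
  show (Pi.lift ψ ≫ ExtTower.diffMap (abG G) (abT G)) ≫ Pi.π (abG G) n = φ ≫ Pi.π (abG G) n
  rw [Category.assoc, ExtTower.diffMap_π, Preadditive.comp_sub, ← Category.assoc, limit.lift_π, limit.lift_π]
  show ψ n - l n (ψ n - φ ≫ Pi.π (abG G) n) ≫ abT G n = _
  rw [hl, sub_sub_cancel]

theorem epi_diffMap : Epi (ExtTower.diffMap (abG G) (abT G)) :=
  epi_of_lift _ fun _ hU φ => exists_lift_diff G hqc hepi hU φ

theorem exists_milnor (P : Sheaf (Opens.grothendieckTopology X) AddCommGrpCat.{u}) (p : ℕ) :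
    ∃ (α : Formal2.limOne (fun n => Ext.{u} P (abG G n) p) (ExtTower.extT (abG G) (abT G) P p) →+
        Ext.{u} P (Coh.toAb (limit G)) (p + 1))
      (β : Ext.{u} P (Coh.toAb (limit G)) (p + 1) →+
        Formal2.limZero (fun n => Ext.{u} P (abG G n) (p + 1)) (ExtTower.extT (abG G) (abT G) P (p + 1))),
      Function.Injective α ∧ Function.Surjective β ∧ α.range = β.ker ∧
      ∀ (x : Ext.{u} P (Coh.toAb (limit G)) (p + 1)) (n : ℕ),
        (β x : ∀ n, Ext.{u} P (abG G n) (p + 1)) n = x.comp (Ext.mk₀ (abπ G n)) (add_zero (p + 1)) := by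
  have := epi_diffMap G hqc hepi
  have := SiteBase.preservesLimitsOfSize_toSheaf X.ringCatSheaf
  have : PreservesLimitsOfSize.{0, 0} (SheafOfModules.toSheaf X.ringCatSheaf) :=
    preservesLimitsOfSize_shrink.{0, u, 0, u} _
  let hlim := isLimitOfPreserves (SheafOfModules.toSheaf X.ringCatSheaf) (limit.isLimit G)
  refine ExtTower.exists_milnor (abG G) (abT G) isProdExact (fun n => affAcyclic_of_isQCoh (hqc n))
    (abπ G) (fun n => ?_) (fun {T} k hk => ?_) (fun {T} l l' h => hlim.hom_ext fun n => h n.unop) P p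
  · show (SheafOfModules.toSheaf _).map _ ≫ (SheafOfModules.toSheaf _).map _ = _
    refine (Functor.map_comp _ _ _).symm.trans ?_
    exact congrArg (SheafOfModules.toSheaf X.ringCatSheaf).map (limit.w G (homOfLE (Nat.le_succ n)).op)
  · let c : Cone (G ⋙ SheafOfModules.toSheaf X.ringCatSheaf) :=
      { pt := T, π := NatTrans.ofOpSequence k fun n => (Category.id_comp _).trans (hk n).symm }
    exact ⟨hlim.lift c, fun n => hlim.fac c (op n)⟩

theorem subsingleton_Ext_limit {U : X.Opens} (hU : IsAffineOpen U) (q : ℕ) :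
    Subsingleton (Ext.{u} (freeOp U) (Coh.toAb (limit G)) (q + 1)) := by
  obtain ⟨α, β, -, -, hex, -⟩ := exists_milnor G hqc hepi (freeOp U) q
  refine subsingleton_of_forall_eq 0 fun x => ?_
  have hβ : β x = 0 := Subtype.ext (funext fun n => (affAcyclic_of_isQCoh (hqc n) U hU q).elim _ _)
  obtain ⟨z, rfl⟩ := (hex.ge : _ ≤ _) (AddMonoidHom.mem_ker.2 hβ)
  obtain ⟨y, rfl⟩ := QuotientAddGroup.mk_surjective z
  suffices hy : y ∈ (Formal2.towerDiff (fun n => Ext.{u} (freeOp U) (abG G n) q)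
      (ExtTower.extT (abG G) (abT G) (freeOp U) q)).range by
    rw [(QuotientAddGroup.eq_zero_iff y).2 hy, map_zero]
  cases q with
  | succ q => exact ⟨0, funext fun n => (affAcyclic_of_isQCoh (hqc n) U hU q).elim _ _⟩
  | zero =>
    obtain ⟨z, hz⟩ := (ExtTower.toPi_zero_bijective (freeOp U) (abG G)).2 y
    obtain ⟨φ, rfl⟩ := (Ext.mk₀_bijective _ _).2 z
    obtain ⟨ψ, hψ⟩ := exists_lift_diff G hqc hepi hU φ
    exact ⟨ExtTower.toPi (freeOp U) (abG G) 0 (Ext.mk₀ ψ),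
      by rw [← ExtTower.toPi_diffMap, Ext.mk₀_comp_mk₀, hψ, hz]⟩

omit hqc hepi in
theorem epi_of_isQCohFormal {A : Type u} [CommRing A] [X.Over (Spec (CommRingCat.of A))] {I : Ideal A}
    {G : ℕᵒᵖ ⥤ X.Modules} (hG : Formal2.IsQCohFormal I G) (n : ℕ) :
    Epi (G.map (homOfLE (Nat.le_succ n)).op) := by
  obtain ⟨h0, hiso⟩ := hG.2.2 n
  haveI := hiso
  rw [← cokernel.π_desc _ _ h0]
  exact @epi_comp _ _ _ _ _ _ coequalizer.π_epi _ (@IsIso.epi_of_iso _ _ _ _ _ hiso)

end Groth.Agent.PunctCoh79
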