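import Groth.Agent.Algz7.Completion
import Groth.Agent.AModX.Res
import Groth.Prelude.Def_Formal2

/-!
# Coherent formal modules for ideals with the same zero locus

Reindexing: `G ↦ (G_{c(n+1)} / J^(n+1))` is an equivalence once `I^c O_X ⊆ J O_X` and
`J^c O_X ⊆ I O_X`.
-/

set_option autoImplicit false
universe u

open CategoryTheory CategoryTheory.Limits AlgebraicGeometry Opposite

namespace Groth.Agent.PunctCoh79.SameZero

open Groth.Agent.AModX Groth.Agent.Algz7

variable {A : Type u} [CommRing A] {X : Scheme.{u}} [X.Over (Spec (CommRingCat.of A))]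

variable (X) in
/-- The functions on `U` coming from the base. -/
noncomputable def toU (U : X.Opens) : A →+* Γ(X, U) :=
  (resR (le_top : U ≤ ⊤)).comp (Coh.toGlobal (X ↘ Spec (CommRingCat.of A)))

theorem res_toU {U V : X.Opens} (h : V ≤ U) (a : A) : resR h (toU X U a) = toU X V a :=
  resR_resR _ _ _

theorem smulMod_app (M : X.Modules) (a : A) (U : X.Opens) (m : Γ(M, U)) :
    (Formal.smulMod A M a).app U m = toU X U a • m := rfl

variable (X) in
/-- `J O_X ⊆ I O_X`. -/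
def Sub (J I : Ideal A) : Prop := ∀ x : X, ∃ U : X.Opens, x ∈ U ∧ J.map (toU X U) ≤ I.map (toU X U)

theorem sub_of_le {J I : Ideal A} (h : J ≤ I) : Sub X J I := fun _ => ⟨⊤, trivial, Ideal.map_mono h⟩

theorem Sub.trans' {J I K : Ideal A} (h : J ≤ K) (h' : Sub X K I) : Sub X J I := fun x => by
  obtain ⟨U, hx, hU⟩ := h' x
  exact ⟨U, hx, (Ideal.map_mono h).trans hU⟩

theorem Sub.pow {J I : Ideal A} (h : Sub X J I) (n : ℕ) : Sub X (J ^ n) (I ^ n) := fun x => by
  obtain ⟨U, hx, hU⟩ := h x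
  refine ⟨U, hx, ?_⟩
  rw [Ideal.map_pow, Ideal.map_pow]
  exact Ideal.pow_right_mono hU n

theorem Sub.smulFamily_comp {J I : Ideal A} (hs : Sub X J I) {M N : X.Modules} {φ : M ⟶ N}
    (hφ : Formal.smulFamily I M ≫ φ = 0) : Formal.smulFamily J M ≫ φ = 0 := by
  apply Sigma.hom_ext
  intro a
  rw [comp_zero, ← Category.assoc, Formal.smulFamily, Sigma.ι_desc]
  refine Scheme.Modules.hom_ext _ _ fun W => ?_
  ext m
  show φ.app W ((Formal.smulMod A M (a : A)).app W m) = 0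
  rw [smulMod_app]
  refine eq_of_locally _ _ fun p hp => ?_
  obtain ⟨U, hpU, hU⟩ := hs p
  refine ⟨W ⊓ U, inf_le_left, ⟨hp, hpU⟩, ?_⟩
  rw [map_zero, ← app_res, res_smul, res_toU]
  have hmem : toU X (W ⊓ U) (a : A) ∈ I.map (toU X (W ⊓ U)) := by
    have h1 := Ideal.mem_map_of_mem (resR (inf_le_right : W ⊓ U ≤ U)) (hU (Ideal.mem_map_of_mem _ a.2))
    rw [res_toU, Ideal.map_map] at h1
    rwa [show (resR (inf_le_right : W ⊓ U ≤ U)).comp (toU X U) = toU (A := A) X (W ⊓ U) from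
      RingHom.ext fun b => res_toU _ b] at h1
  suffices key : ∀ m' : Γ(M, W ⊓ U), φ.app (W ⊓ U) (toU X (W ⊓ U) (a : A) • m') = 0 from key _
  refine Submodule.span_induction ?_ ?_ ?_ ?_ hmem
  · rintro _ ⟨b, hb, rfl⟩ m'
    have h2 := congrArg (fun t => (t.app (W ⊓ U)) m') (smulMod_comp_eq_zero hφ hb)
    exact h2
  · intro m'
    rw [zero_smul, map_zero]
  · intro s t _ _ hs ht m'
    rw [add_smul, map_add, hs, ht, add_zero]
  · intro r s _ hs m'
    rw [smul_eq_mul, mul_comm, mul_smul]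
    exact hs _

theorem isQuot_comp {J J' : Ideal A} {M N P : X.Modules} {p : M ⟶ N} {g : N ⟶ P} (hp : IsQuot J' p)
    (hg : IsQuot J g) (hs : Sub X J' J) : IsQuot J (p ≫ g) := by
  haveI := hp.epi
  haveI := hg.epi
  refine IsQuot.mk' _ (killedBy_of_isQuot hg) fun {Q} φ hφ => ?_
  obtain ⟨ψ, hψ⟩ := hp.desc φ (hs.smulFamily_comp hφ)
  obtain ⟨χ, hχ⟩ := hg.desc ψ (by
    apply Sigma.hom_ext
    intro a
    rw [comp_zero, ← Category.assoc, Formal.smulFamily, Sigma.ι_desc, ← cancel_epi p, comp_zero,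
      ← Category.assoc, ← smulMod_naturality, Category.assoc, hψ, smulMod_comp_eq_zero hφ a.2])
  exact ⟨χ, by rw [Category.assoc, hχ, hψ]⟩

theorem isQuot_of_comp {J : Ideal A} {M N P : X.Modules} (p : M ⟶ N) [Epi p] {g : N ⟶ P}
    (hpg : IsQuot J (p ≫ g)) : IsQuot J g := by
  haveI := hpg.epi
  haveI : Epi g := epi_of_epi p g
  refine IsQuot.mk' _ (killedBy_of_isQuot hpg) fun {Q} φ hφ => ?_
  obtain ⟨ψ, hψ⟩ := hpg.desc (p ≫ φ) (by
    apply Sigma.hom_ext
    intro a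
    rw [comp_zero, ← Category.assoc, Formal.smulFamily, Sigma.ι_desc, ← Category.assoc, smulMod_naturality,
      Category.assoc, smulMod_comp_eq_zero hφ a.2, comp_zero])
  exact ⟨ψ, by rw [← cancel_epi p, ← hψ, Category.assoc]⟩

theorem isQuot_unique {J : Ideal A} {M P Q : X.Modules} {p : M ⟶ P} {q : M ⟶ Q} (hp : IsQuot J p)
    (hq : IsQuot J q) : ∃ e : P ≅ Q, p ≫ e.hom = q := by
  haveI := hp.epi
  haveI := hq.epi
  obtain ⟨a, ha⟩ := hp.desc q (smulFamily_comp_eq_zero (killedBy_of_isQuot hq) q)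
  obtain ⟨b, hb⟩ := hq.desc p (smulFamily_comp_eq_zero (killedBy_of_isQuot hp) p)
  refine ⟨⟨a, b, ?_, ?_⟩, ha⟩
  · rw [← cancel_epi p, ← Category.assoc, ha, hb, Category.comp_id]
  · rw [← cancel_epi q, ← Category.assoc, hb, ha, Category.comp_id]

/-- The map on quotients. -/
noncomputable def qMap (J : Ideal A) (n : ℕ) {M N : X.Modules} (φ : M ⟶ N) :
    Formal.modPow J n M ⟶ Formal.modPow J n N :=
  cokernel.desc _ (φ ≫ Formal.modPowπ J n N)
    (smulFamily_comp_eq_zero (killedBy_of_isQuot (isQuot_modPowπ J n N)) _)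

@[reassoc (attr := simp)]
theorem π_qMap (J : Ideal A) (n : ℕ) {M N : X.Modules} (φ : M ⟶ N) :
    Formal.modPowπ J n M ≫ qMap J n φ = φ ≫ Formal.modPowπ J n N :=
  cokernel.π_desc _ _ _

attribute [local instance] epi_comp

instance epi_modPowπ (J : Ideal A) (n : ℕ) (M : X.Modules) : Epi (Formal.modPowπ J n M) :=
  (isQuot_modPowπ J n M).epi

theorem qMap_id (J : Ideal A) (n : ℕ) (M : X.Modules) : qMap J n (𝟙 M) = 𝟙 _ := by
  rw [← cancel_epi (Formal.modPowπ J n M), π_qMap, Category.id_comp, Category.comp_id]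

theorem qMap_comp (J : Ideal A) (n : ℕ) {M N P : X.Modules} (φ : M ⟶ N) (ψ : N ⟶ P) :
    qMap J n (φ ≫ ψ) = qMap J n φ ≫ qMap J n ψ := by
  rw [← cancel_epi (Formal.modPowπ J n M), π_qMap, π_qMap_assoc, π_qMap, Category.assoc]

theorem trans_qMap (J : Ideal A) (n : ℕ) {M N : X.Modules} (φ : M ⟶ N) :
    qMap J (n + 1) φ ≫ Formal.modPowTrans J n N = Formal.modPowTrans J n M ≫ qMap J n φ := by
  rw [← cancel_epi (Formal.modPowπ J (n + 1) M), π_qMap_assoc, Formal.modPowπ_trans,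
    ← Category.assoc, Formal.modPowπ_trans, π_qMap]

section Reindex

variable (J : Ideal A) (c : ℕ)

/-- The reindexing. -/
def idx (n : ℕ) : ℕ := c * (n + 1)

theorem idx_mono {p q : ℕ} (h : p ≤ q) : idx c p ≤ idx c q := Nat.mul_le_mul_left _ (Nat.succ_le_succ h)

theorem idx_succ (n : ℕ) : idx c n ≤ idx c (n + 1) := idx_mono c (Nat.le_succ n)

theorem le_idx (hc : 1 ≤ c) (n : ℕ) : n ≤ idx c n :=
  (Nat.le_succ n).trans (Nat.le_mul_of_pos_left _ hc)

/-- The transition maps of the reindexed system. -/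
noncomputable def newTrans (G : ℕᵒᵖ ⥤ X.Modules) (n : ℕ) :
    Formal.modPow J (n + 1 + 1) (G.obj (op (idx c (n + 1)))) ⟶ Formal.modPow J (n + 1) (G.obj (op (idx c n))) :=
  Formal.modPowTrans J (n + 1) _ ≫ qMap J (n + 1) (ARSys.tr G (idx_succ c n))

/-- `n ↦ G_{c(n+1)} / J^(n+1)`. -/
noncomputable def newSys (G : ℕᵒᵖ ⥤ X.Modules) : ℕᵒᵖ ⥤ X.Modules :=
  Functor.ofOpSequence (X := fun n => Formal.modPow J (n + 1) (G.obj (op (idx c n)))) (newTrans J c G)

theorem newSys_map (G : ℕᵒᵖ ⥤ X.Modules) (n : ℕ) :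
    (newSys J c G).map (homOfLE (Nat.le_succ n)).op = newTrans J c G n :=
  Functor.ofOpSequence_map_homOfLE_succ _ n

/-- Functoriality of the reindexed system. -/
noncomputable def newMap {G H : ℕᵒᵖ ⥤ X.Modules} (η : G ⟶ H) : newSys J c G ⟶ newSys J c H :=
  NatTrans.ofOpSequence (fun n => qMap J (n + 1) (η.app (op (idx c n)))) fun n => by
    rw [newSys_map, newSys_map]
    change newTrans J c G n ≫ qMap J (n + 1) (η.app (op (idx c n))) =
      qMap J (n + 1 + 1) (η.app (op (idx c (n + 1)))) ≫ newTrans J c H n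
    have hn : ARSys.tr G (idx_succ c n) ≫ η.app (op (idx c n)) =
        η.app (op (idx c (n + 1))) ≫ ARSys.tr H (idx_succ c n) := η.naturality _
    rw [newTrans, newTrans, Category.assoc, ← qMap_comp, hn, qMap_comp, ← Category.assoc,
      ← trans_qMap, Category.assoc]

variable (X) in
/-- The reindexing functor. -/
noncomputable def newFun : (ℕᵒᵖ ⥤ X.Modules) ⥤ ℕᵒᵖ ⥤ X.Modules where
  obj G := newSys J c G
  map η := newMap J c η
  map_id G := by
    ext n : 2
    exact qMap_id J _ _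
  map_comp η θ := by
    ext n : 2
    exact qMap_comp J _ _ _

variable {J c} {I : Ideal A} {G : ℕᵒᵖ ⥤ X.Modules}

/-- The quotient map `G_k → G_{c(n+1)}/J^(n+1)`. -/
noncomputable def qq (J : Ideal A) (c : ℕ) (G : ℕᵒᵖ ⥤ X.Modules) {n k : ℕ} (h : idx c n ≤ k) :
    G.obj (op k) ⟶ (newSys J c G).obj (op n) :=
  ARSys.tr G h ≫ Formal.modPowπ J (n + 1) _

theorem factor' (hG : Formal.IsCohFormal I G) {n q : ℕ} (h : n ≤ q) {N : X.Modules}
    (φ : G.obj (op q) ⟶ N) (hφ : Formal.smulFamily (I ^ (n + 1)) _ ≫ φ = 0) :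
    ∃ ψ : G.obj (op n) ⟶ N, ARSys.tr G h ≫ ψ = φ := by
  have hq := isQuot_modPowπ I (n + 1) (G.obj (op q))
  obtain ⟨ψ, hψ⟩ := factor hG h (killedBy_of_isQuot hq) (Formal.modPowπ I (n + 1) _)
  obtain ⟨χ, hχ⟩ := hq.desc φ hφ
  exact ⟨ψ ≫ χ, by rw [← Category.assoc, hψ, hχ]⟩

theorem isQuot_tr (hG : Formal.IsCohFormal I G) {n q : ℕ} (h : n ≤ q) :
    IsQuot (I ^ (n + 1)) (ARSys.tr G h) := by
  haveI := epi_tr hG h
  exact IsQuot.mk' _ (hG.2.1 n) fun φ hφ => factor' hG h φ hφ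

theorem sub_idx (hs : Sub X (I ^ c) J) (n : ℕ) : Sub X (I ^ (idx c n + 1)) (J ^ (n + 1)) := by
  refine Sub.trans' (Ideal.pow_le_pow_right (Nat.le_succ _)) ?_
  rw [idx, pow_mul]
  exact hs.pow _

theorem isQuot_qq (hG : Formal.IsCohFormal I G) (hs : Sub X (I ^ c) J) {n k : ℕ} (h : idx c n ≤ k) :
    IsQuot (J ^ (n + 1)) (qq J c G h) :=
  isQuot_comp (isQuot_tr hG h) (isQuot_modPowπ J (n + 1) _) (sub_idx hs n)

theorem qq_step {n k : ℕ} (h : idx c (n + 1) ≤ k) :
    qq J c G h ≫ (newSys J c G).map (homOfLE (Nat.le_succ n)).op = qq J c G ((idx_succ c n).trans h) := by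
  rw [newSys_map]
  change (ARSys.tr G h ≫ Formal.modPowπ J (n + 1 + 1) _) ≫ newTrans J c G n = _
  rw [newTrans, Category.assoc, ← Category.assoc (Formal.modPowπ J (n + 1 + 1) _), Formal.modPowπ_trans,
    π_qMap, ← Category.assoc, tr_trans]
  rfl

theorem qq_map {n n' k : ℕ} (hn : n ≤ n') (h : idx c n' ≤ k) :
    qq J c G h ≫ ARSys.tr (newSys J c G) hn = qq J c G ((idx_mono c hn).trans h) := by
  induction n', hn using Nat.le_induction with
  | base => rw [tr_refl, Category.comp_id]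
  | succ n' hn ih =>
    rw [← tr_trans (newSys J c G) hn (Nat.le_succ n'), ← Category.assoc]
    erw [qq_step]
    exact ih _

theorem isCohFormal_newSys (hG : Formal.IsCohFormal I G) (hs : Sub X (I ^ c) J) :
    Formal.IsCohFormal J (newSys J c G) := by
  refine ⟨fun n => ?_, fun n => killedBy_of_isQuot (isQuot_modPowπ J (n + 1) _), fun n => ?_⟩
  · exact @isCoh_of_epi _ _ (Formal.modPow J (n + 1) _) (Formal.modPowπ J (n + 1) _) inferInstance
      (hG.1 (idx c n)) (isQCoh_modPow J _ (hG.1 (idx c n)).1)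
  · haveI := (isQuot_qq hG hs (le_refl (idx c (n + 1)))).epi
    refine isQuot_of_comp (qq J c G (le_refl (idx c (n + 1)))) ?_
    rw [qq_step]
    exact isQuot_qq hG hs _

theorem newMap_qq {H : ℕᵒᵖ ⥤ X.Modules} (η : G ⟶ H) {n k : ℕ} (h : idx c n ≤ k) :
    qq J c G h ≫ (newMap J c η).app (op n) = η.app (op k) ≫ qq J c H h := by
  change (ARSys.tr G h ≫ Formal.modPowπ J (n + 1) _) ≫ qMap J (n + 1) (η.app (op (idx c n))) = _
  rw [Category.assoc, π_qMap, ← Category.assoc, qq, ← Category.assoc]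
  exact congrArg (· ≫ _) (η.naturality _)

end Reindex

section Unit

variable {I J : Ideal A} {c : ℕ} (hc : 1 ≤ c) (hIJ : Sub X (I ^ c) J) (hJI : Sub X (J ^ c) I)
  {G : ℕᵒᵖ ⥤ X.Modules} (hG : Formal.IsCohFormal I G)

/-- `G_{m(m(n))} → (ΨΦ G)_n`. -/
noncomputable def q2 (I J : Ideal A) (c : ℕ) (G : ℕᵒᵖ ⥤ X.Modules) (n : ℕ) :
    G.obj (op (idx c (idx c n))) ⟶ (newSys I c (newSys J c G)).obj (op n) :=
  qq J c G (le_refl _) ≫ qq I c (newSys J c G) (le_refl _)

include hIJ hJI hG in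
theorem isQuot_q2 (n : ℕ) : IsQuot (I ^ (n + 1)) (q2 I J c G n) :=
  isQuot_comp (isQuot_qq hG hIJ _) (isQuot_qq (isCohFormal_newSys hG hIJ) hJI _) (sub_idx hJI n)

theorem q2_step (n : ℕ) :
    ARSys.tr G (idx_mono c (idx_succ c n)) ≫ q2 I J c G n =
      q2 I J c G (n + 1) ≫ (newSys I c (newSys J c G)).map (homOfLE (Nat.le_succ n)).op := by
  rw [q2, q2, Category.assoc, qq_step, ← Category.assoc]
  have h1 : ARSys.tr G (idx_mono c (idx_succ c n)) ≫ qq J c G (le_refl (idx c (idx c n))) =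
      qq J c G (idx_mono c (idx_succ c n)) := by
    rw [qq, qq, tr_refl, Category.id_comp]
  have h2 : qq J c G (le_refl (idx c (idx c (n + 1)))) ≫ qq I c (newSys J c G) ((idx_succ c n).trans (le_refl _)) =
      qq J c G (idx_mono c (idx_succ c n)) ≫ qq I c (newSys J c G) (le_refl (idx c n)) := by
    change _ ≫ ARSys.tr (newSys J c G) _ ≫ Formal.modPowπ I (n + 1) _ =
      _ ≫ ARSys.tr (newSys J c G) _ ≫ Formal.modPowπ I (n + 1) _
    rw [tr_refl, Category.id_comp, ← Category.assoc, qq_map]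
  rw [h1, h2]

include hc hIJ hJI hG in
theorem exists_unitIso :
    ∃ e : G ≅ newSys I c (newSys J c G), ∀ n,
      ARSys.tr G ((le_idx c hc n).trans (le_idx c hc _)) ≫ e.hom.app (op n) = q2 I J c G n := by
  choose e he using fun n =>
    isQuot_unique (isQuot_tr hG ((le_idx c hc n).trans (le_idx c hc _))) (isQuot_q2 hIJ hJI hG n)
  let η : G ⟶ newSys I c (newSys J c G) := NatTrans.ofOpSequence (fun n => (e n).hom) fun n => by
    haveI := epi_tr hG ((le_idx c hc (n + 1)).trans (le_idx c hc _))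
    rw [← cancel_epi (ARSys.tr G ((le_idx c hc (n + 1)).trans (le_idx c hc _))), ← Category.assoc,
      ← Category.assoc, he, ← q2_step]
    change (ARSys.tr G _ ≫ ARSys.tr G (Nat.le_succ n)) ≫ _ = _
    rw [tr_trans, ← tr_trans G ((le_idx c hc n).trans (le_idx c hc _)) (idx_mono c (idx_succ c n)),
      Category.assoc, he]
  haveI : ∀ x, IsIso (η.app x) := fun x => inferInstanceAs (IsIso (e x.unop).hom)
  haveI : IsIso η := NatIso.isIso_of_isIso_app η
  exact ⟨asIso η, he⟩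

end Unit

section Equiv

variable {I J : Ideal A} {c : ℕ} (hc : 1 ≤ c) (hIJ : Sub X (I ^ c) J) (hJI : Sub X (J ^ c) I)

/-- The reindexing functor on coherent formal modules. -/
noncomputable def cohFun : Formal2.CohFormalCat I X ⥤ Formal2.CohFormalCat J X :=
  ObjectProperty.lift _ (ObjectProperty.ι _ ⋙ newFun X J c) fun G => isCohFormal_newSys G.property hIJ

include hc in
theorem unit_iso : Nonempty (𝟭 (Formal2.CohFormalCat I X) ≅ cohFun hIJ ⋙ cohFun hJI) := by
  choose e he using fun G : Formal2.CohFormalCat I X => exists_unitIso hc hIJ hJI G.property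
  refine ⟨NatIso.ofComponents (fun G => ObjectProperty.isoMk _ (e G)) fun {G H} f => ?_⟩
  apply ObjectProperty.hom_ext
  ext ⟨n⟩ : 2
  haveI := epi_tr G.property ((le_idx c hc n).trans (le_idx c hc _))
  change f.hom.app (op n) ≫ (e H).hom.app (op n) =
    (e G).hom.app (op n) ≫ (newMap I c (newMap J c f.hom)).app (op n)
  rw [← cancel_epi (ARSys.tr G.obj ((le_idx c hc n).trans (le_idx c hc _))), ← Category.assoc,
    ← Category.assoc, he G]
  erw [f.hom.naturality]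
  rw [Category.assoc]
  erw [he H]
  rw [q2, q2, Category.assoc, newMap_qq, ← Category.assoc, ← Category.assoc, newMap_qq]

include hc hIJ hJI in
theorem equivalence : Nonempty (Formal2.CohFormalCat I X ≌ Formal2.CohFormalCat J X) := by
  obtain ⟨η⟩ := unit_iso hc hIJ hJI
  obtain ⟨ε⟩ := unit_iso hc hJI hIJ
  exact ⟨CategoryTheory.Equivalence.mk (cohFun hIJ) (cohFun hJI) η ε.symm⟩

end Equiv

section Exists

theorem radical_map_le {I J : Ideal A}
    (hV : (fun x : X => (X ↘ Spec (CommRingCat.of A)) x) ⁻¹' PrimeSpectrum.zeroLocus (J : Set A) ⊆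
      (fun x : X => (X ↘ Spec (CommRingCat.of A)) x) ⁻¹' PrimeSpectrum.zeroLocus (I : Set A))
    {U : X.Opens} (hU : IsAffineOpen U) : I.map (toU X U) ≤ (J.map (toU X U)).radical := by
  rw [Ideal.map_le_iff_le_comap, Ideal.radical_eq_sInf]
  intro a ha
  rw [Ideal.mem_comap, Submodule.mem_sInf]
  rintro q ⟨hJq, hq⟩
  let z : PrimeSpectrum Γ(X, U) := ⟨q, hq⟩
  have hbo : ∀ b : A, toU X U b ∈ q ↔ b ∈ ((X ↘ Spec (CommRingCat.of A)) (hU.fromSpec z)).asIdeal := by
    intro b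
    have h0 : hU.fromSpec z ∈ U := by
      rw [← SetLike.mem_coe, ← hU.range_fromSpec]
      exact ⟨z, rfl⟩
    have h1 : hU.fromSpec ⁻¹ᵁ X.basicOpen (toU X U b) = PrimeSpectrum.basicOpen (toU X U b) :=
      hU.fromSpec_preimage_basicOpen _
    have h2 : X.basicOpen (toU X U b) =
        U ⊓ (X ↘ Spec (CommRingCat.of A)) ⁻¹ᵁ PrimeSpectrum.basicOpen b := by
      rw [toU, RingHom.comp_apply]
      refine (Scheme.basicOpen_res X _ _).trans ?_
      congr 1
      rw [Coh.toGlobal, RingHom.comp_apply]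
      refine (Scheme.preimage_basicOpen_top _ _).symm.trans ?_
      exact congrArg (fun V => (X ↘ Spec (CommRingCat.of A)) ⁻¹ᵁ V) (basicOpen_eq_of_affine (R := CommRingCat.of A) b)
    have h3 : z ∈ PrimeSpectrum.basicOpen (toU X U b) ↔
        hU.fromSpec z ∈ (X ↘ Spec (CommRingCat.of A)) ⁻¹ᵁ PrimeSpectrum.basicOpen b := by
      rw [← h1, h2]
      exact ⟨fun h => h.2, fun h => ⟨h0, h⟩⟩
    exact not_iff_not.mp h3
  refine (hbo a).mpr ?_
  exact hV (a := hU.fromSpec z) (fun b hb => (hbo b).mp (hJq (Ideal.mem_map_of_mem _ hb))) ha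

theorem exists_pow_sub [IsNoetherian X] {I J : Ideal A}
    (hV : (fun x : X => (X ↘ Spec (CommRingCat.of A)) x) ⁻¹' PrimeSpectrum.zeroLocus (J : Set A) ⊆
      (fun x : X => (X ↘ Spec (CommRingCat.of A)) x) ⁻¹' PrimeSpectrum.zeroLocus (I : Set A)) :
    ∃ c : ℕ, ∀ d, c ≤ d → Sub X (I ^ d) J := by
  have hloc : ∀ x : X, ∃ U : X.Opens, x ∈ U ∧ ∃ k : ℕ, (I.map (toU X U)) ^ k ≤ J.map (toU X U) := by
    intro x
    obtain ⟨_, ⟨U, hU, rfl⟩, hxU, -⟩ :=
      X.isBasis_affineOpens.exists_subset_of_mem_open (Set.mem_univ x) isOpen_univ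
    haveI : IsNoetherianRing Γ(X, U) := IsLocallyNoetherian.component_noetherian ⟨U, hU⟩
    refine ⟨U, hxU, ?_⟩
    exact Ideal.exists_pow_le_of_le_radical_of_fg (radical_map_le hV hU) (IsNoetherian.noetherian _)
  choose U hxU k hk using hloc
  obtain ⟨T, hT⟩ := isCompact_univ.elim_finite_subcover (fun x : X => (U x : Set X)) (fun x => (U x).2)
    (fun x _ => Set.mem_iUnion.2 ⟨x, hxU x⟩)
  refine ⟨∑ x ∈ T, k x, fun d hd p => ?_⟩
  obtain ⟨x, hxT, hpx⟩ := Set.mem_iUnion₂.1 (hT (Set.mem_univ p))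
  refine ⟨U x, hpx, ?_⟩
  rw [Ideal.map_pow]
  exact (Ideal.pow_le_pow_right
    ((Finset.single_le_sum (f := k) (fun _ _ => Nat.zero_le _) hxT).trans hd)).trans (hk x)

theorem equivalence_of_zeroLocus_eq [IsNoetherian X] (I J : Ideal A)
    (hV : (fun x : X => (X ↘ Spec (CommRingCat.of A)) x) ⁻¹' PrimeSpectrum.zeroLocus (I : Set A) =
      (fun x : X => (X ↘ Spec (CommRingCat.of A)) x) ⁻¹' PrimeSpectrum.zeroLocus (J : Set A)) :
    Nonempty (Formal2.CohFormalCat I X ≌ Formal2.CohFormalCat J X) := by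
  obtain ⟨c₁, h₁⟩ := exists_pow_sub (X := X) hV.ge
  obtain ⟨c₂, h₂⟩ := exists_pow_sub (X := X) hV.le
  exact equivalence (c := c₁ + c₂ + 1) (Nat.le_add_left _ _) (h₁ _ (by omega)) (h₂ _ (by omega))

end Exists

end Groth.Agent.PunctCoh79.SameZero
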