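import Groth.Agent.QCoh.Tilde

/-!
# Sections of `M~` over opens of `Spec R`
-/

universe u

open CategoryTheory CategoryTheory.Limits AlgebraicGeometry TopologicalSpace Opposite

namespace Groth.Agent.PunctCoh79

variable {R : CommRingCat.{u}}

/-- `D(g)` as an open of the scheme `Spec R` -/
noncomputable def bO (g : R) : (Spec R).Opens := PrimeSpectrum.basicOpen g

theorem mem_bO {g : R} {p : Spec R} : p ∈ bO g ↔ g ∉ p.asIdeal := Iff.rfl

theorem bO_mul (a b : R) : bO (a * b) = bO a ⊓ bO b := PrimeSpectrum.basicOpen_mul a b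

theorem bO_mul_le_left (a b : R) : bO (a * b) ≤ bO a := PrimeSpectrum.basicOpen_mul_le_left a b

theorem bO_mul_le_right (a b : R) : bO (a * b) ≤ bO b := PrimeSpectrum.basicOpen_mul_le_right a b

theorem bO_pow (a : R) (n : ℕ) (hn : 0 < n) : bO (a ^ n) = bO a := PrimeSpectrum.basicOpen_pow a n hn

/-- `M → Γ(U, M~)` -/
noncomputable def secMap (M : ModuleCat.{u} R) (U : (Spec R).Opens) : M →ₗ[R] Γ(tilde M, U) :=
  (tilde.toOpen M U).hom

/-- restriction, as an `R`-linear map -/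
noncomputable def secRes (F : (Spec R).Modules) {U V : (Spec R).Opens} (h : V ≤ U) :
    Γ(F, U) →ₗ[R] Γ(F, V) :=
  ((modulesSpecToSheaf.obj F).obj.map (homOfLE h).op).hom

/-- `Γ(U, φ~)` -/
noncomputable def secTilde {M N : ModuleCat.{u} R} (φ : M ⟶ N) (U : (Spec R).Opens) :
    Γ(tilde M, U) →ₗ[R] Γ(tilde N, U) :=
  ((modulesSpecToSheaf.map (tilde.map φ)).1.app (op U)).hom

theorem secRes_secMap (M : ModuleCat.{u} R) {U V : (Spec R).Opens} (h : V ≤ U) (m : M) :
    secRes (tilde M) h (secMap M U m) = secMap M V m :=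
  ConcreteCategory.congr_hom (tilde.toOpen_res M U V (homOfLE h)) m

theorem secRes_secRes (F : (Spec R).Modules) {U V W : (Spec R).Opens} (h : V ≤ U) (h' : W ≤ V)
    (s : Γ(F, U)) : secRes F h' (secRes F h s) = secRes F (h'.trans h) s :=
  (ConcreteCategory.congr_hom ((modulesSpecToSheaf.obj F).obj.map_comp (homOfLE h).op (homOfLE h').op) s).symm

theorem secTilde_secMap {M N : ModuleCat.{u} R} (φ : M ⟶ N) (U : (Spec R).Opens) (m : M) :
    secTilde φ U (secMap M U m) = secMap N U (φ.hom m) :=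
  ConcreteCategory.congr_hom (tilde.toOpen_map_app φ U) m

theorem secRes_secTilde {M N : ModuleCat.{u} R} (φ : M ⟶ N) {U V : (Spec R).Opens} (h : V ≤ U)
    (s : Γ(tilde M, U)) :
    secRes (tilde N) h (secTilde φ U s) = secTilde φ V (secRes (tilde M) h s) :=
  (ConcreteCategory.congr_hom ((modulesSpecToSheaf.map (tilde.map φ)).1.naturality (homOfLE h).op) s).symm

theorem secTilde_injective {M N : ModuleCat.{u} R} (φ : M ⟶ N) [Mono φ] (U : (Spec R).Opens) :
    Function.Injective (secTilde φ U) := by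
  haveI := QCoh.tildeMap_mono φ
  exact QCoh.app_injective (tilde.map φ) U

theorem sec_ext (F : (Spec R).Modules) {U : (Spec R).Opens} {s t : Γ(F, U)} {ι : Type*}
    (V : ι → (Spec R).Opens) (hV : ∀ i, V i ≤ U) (hcov : ∀ p ∈ U, ∃ i, p ∈ V i)
    (h : ∀ i, secRes F (hV i) s = secRes F (hV i) t) : s = t := by
  rw [← sub_eq_zero]
  refine QCoh.eq_zero_of_locally U _ fun p hp => ?_
  obtain ⟨i, hi⟩ := hcov p hp
  refine ⟨V i, homOfLE (hV i), hi, ?_⟩
  change secRes F (hV i) (s - t) = 0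
  rw [map_sub, h, sub_self]

theorem secMap_eq_zero_iff (M : ModuleCat.{u} R) (g : R) (m : M) :
    secMap M (bO g) m = 0 ↔ ∃ n : ℕ, g ^ n • m = 0 := by
  have hl : IsLocalizedModule (Submonoid.powers g) (secMap M (bO g)) :=
    inferInstanceAs (IsLocalizedModule (Submonoid.powers g) (tilde.toOpen M (PrimeSpectrum.basicOpen g)).hom)
  rw [IsLocalizedModule.eq_zero_iff (Submonoid.powers g)]
  exact ⟨fun ⟨⟨_, n, rfl⟩, h⟩ => ⟨n, h⟩, fun ⟨n, h⟩ => ⟨⟨_, n, rfl⟩, h⟩⟩

theorem exists_secMap_eq (M : ModuleCat.{u} R) (g : R) (s : Γ(tilde M, bO g)) :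
    ∃ (m : M) (n : ℕ), g ^ n • s = secMap M (bO g) m := by
  have hl : IsLocalizedModule (Submonoid.powers g) (secMap M (bO g)) :=
    inferInstanceAs (IsLocalizedModule (Submonoid.powers g) (tilde.toOpen M (PrimeSpectrum.basicOpen g)).hom)
  obtain ⟨⟨m, ⟨_, n, rfl⟩⟩, h⟩ := IsLocalizedModule.surj (Submonoid.powers g) (secMap M (bO g)) s
  exact ⟨m, n, h⟩

theorem pow_smul_cancel (F : (Spec R).Modules) {U : (Spec R).Opens} {g : R}
    (h : U ≤ bO g) (n : ℕ) {s t : Γ(F, U)} (e : g ^ n • s = g ^ n • t) : s = t := by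
  induction n with
  | zero => simpa using e
  | succ n ih =>
    rw [pow_succ', mul_smul, mul_smul] at e
    exact ih (F.isSMulRegular_of_le_basicOpen h e)

theorem exists_pow_smul_eq (F : (Spec R).Modules) {U : (Spec R).Opens} {g : R}
    (h : U ≤ bO g) (n : ℕ) (s : Γ(F, U)) : ∃ t, g ^ n • t = s := by
  have := (Module.End.isUnit_iff _).1 (F.isUnit_algebraMap_end_of_le_basicOpen g h)
  induction n with
  | zero => exact ⟨s, by simp⟩
  | succ n ih =>
    obtain ⟨t, ht⟩ := ih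
    obtain ⟨t', ht'⟩ := this.surjective t
    exact ⟨t', by rw [pow_succ, mul_smul]; exact (congrArg (g ^ n • ·) ht').trans ht⟩

/-- A section which is locally in the image of a monomorphism is in the image. -/
theorem mem_range_of_locally {M N : ModuleCat.{u} R} (φ : M ⟶ N) [Mono φ] {U : (Spec R).Opens}
    (s : Γ(tilde N, U))
    (h : ∀ p ∈ U, ∃ (V : (Spec R).Opens) (hV : V ≤ U), p ∈ V ∧
      secRes (tilde N) hV s ∈ LinearMap.range (secTilde φ V)) :
    s ∈ LinearMap.range (secTilde φ U) := by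
  choose V hV hp t ht using fun p : U => h p.1 p.2
  have hcov : U ≤ iSup V := fun p hp' => Opens.mem_iSup.2 ⟨⟨p, hp'⟩, hp ⟨p, hp'⟩⟩
  have hc : TopCat.Presheaf.IsCompatible (tilde M).presheaf V t := by
    intro p q
    change secRes (tilde M) inf_le_left (t p) = secRes (tilde M) inf_le_right (t q)
    refine secTilde_injective φ _ ?_
    rw [← secRes_secTilde, ← secRes_secTilde, ht, ht, secRes_secRes, secRes_secRes]
  obtain ⟨t₀, ht₀, -⟩ := TopCat.Sheaf.existsUnique_gluing' ⟨(tilde M).presheaf, (tilde M).isSheaf⟩ V U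
    (fun p => homOfLE (hV p)) hcov t hc
  refine ⟨t₀, sec_ext (tilde N) V hV (fun p hp' => ⟨⟨p, hp'⟩, hp ⟨p, hp'⟩⟩) fun p => ?_⟩
  rw [secRes_secTilde, show secRes (tilde M) (hV p) t₀ = t p from ht₀ p, ht]

/-- every point of an open has a basic neighbourhood inside it -/
theorem exists_basicOpen_le {U : (Spec R).Opens} {p : Spec R} (hp : p ∈ U) :
    ∃ g : R, p ∈ bO g ∧ bO g ≤ U := by
  obtain ⟨_, ⟨_, ⟨g, rfl⟩, rfl⟩, hpg, hgU⟩ :=
    PrimeSpectrum.isBasis_basic_opens.exists_subset_of_mem_open hp U.isOpen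
  exact ⟨g, hpg, hgU⟩

end Groth.Agent.PunctCoh79
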