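import Groth.Agent.Algz7.Extend
import Groth.Agent.Algz7.Canonical
import Groth.Agent.PunctCoh79.Sections
import Groth.Agent.PunctCoh79.SameZero
import Groth.Prelude.Def_Formal2

/-!
# Coherent formal modules on a punctured spectrum come from systems of finite modules
-/

set_option autoImplicit false
universe u

open CategoryTheory CategoryTheory.Limits AlgebraicGeometry Opposite

namespace Groth.Agent.PunctCoh79.ModSys

open Groth.Agent.Algz7 Groth.Agent.PunctCoh79.SameZero Groth.Agent.PunctCoh79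

variable {A : Type u} [CommRing A] (𝔞 : Ideal A)

/-- `N ↦ (N~)|_U`. -/
noncomputable abbrev RT : ModuleCat.{u} A ⥤ (↑(LocCoh.puncturedOpen A 𝔞) : Scheme.{u}).Modules :=
  tilde.functor (CommRingCat.of A) ⋙ Scheme.Modules.restrictFunctor (LocCoh.puncturedOpen A 𝔞).ι

variable {𝔞}

theorem bO_le_punctured {a : A} (ha : a ∈ 𝔞) :
    bO (R := CommRingCat.of A) a ≤ LocCoh.puncturedOpen A 𝔞 := fun p hp hz =>
  hp (hz ha)

theorem sec_eq_zero {R : CommRingCat.{u}} (N : ModuleCat.{u} R) (g : R) (h : ∀ x : N, ∃ m : ℕ, g ^ m • x = 0)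
    (s : Γ(tilde N, bO g)) : s = 0 := by
  obtain ⟨x, k, hx⟩ := exists_secMap_eq N g s
  refine pow_smul_cancel _ le_rfl k ?_
  rw [hx, smul_zero, secMap_eq_zero_iff]
  exact h x

theorem isZero_RT {N : ModuleCat.{u} A} (h : ∀ x : N, ∃ m : ℕ, ∀ a ∈ 𝔞 ^ m, a • x = 0) :
    IsZero ((RT 𝔞).obj N) := by
  let U := LocCoh.puncturedOpen A 𝔞
  rw [IsZero.iff_id_eq_zero]
  refine Scheme.Modules.hom_ext _ _ fun O => ?_
  ext s
  show (show Γ(tilde (R := CommRingCat.of A) N, U.ι ''ᵁ O) from s) = 0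
  refine QCoh.eq_zero_of_locally _ _ fun p hp => ?_
  have hpU : p ∈ U := U.ι_image_le O hp
  obtain ⟨a, ha, hpa⟩ : ∃ a ∈ 𝔞, a ∉ p.asIdeal := by
    by_contra hcon
    push Not at hcon
    exact hpU (fun a ha => hcon a ha)
  obtain ⟨g, hpg, hg⟩ := exists_basicOpen_le (R := CommRingCat.of A) hp
  have hb : bO (R := CommRingCat.of A) (g * a) ≤ U.ι ''ᵁ O := (bO_mul_le_left g a).trans hg
  refine ⟨bO (R := CommRingCat.of A) (g * a), homOfLE hb, ?_, ?_⟩
  · rw [bO_mul]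
    exact ⟨hpg, hpa⟩
  show secRes (tilde (R := CommRingCat.of A) N) hb s = 0
  refine sec_eq_zero (R := CommRingCat.of A) N (g * a) (fun x => ?_) _
  obtain ⟨m, hm⟩ := h x
  refine ⟨m, ?_⟩
  rw [mul_pow, mul_smul, hm _ (Ideal.pow_mem_pow ha m), smul_zero]

theorem torsion_of_isZero [IsNoetherianRing A] {N : ModuleCat.{u} A} (h : IsZero ((RT 𝔞).obj N)) (x : N) :
    ∃ m : ℕ, ∀ a ∈ 𝔞 ^ m, a • x = 0 := by
  let U := LocCoh.puncturedOpen A 𝔞
  have hle : 𝔞 ≤ (Ideal.torsionOf A N x).radical := by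
    intro a ha
    let O : (U : Scheme.{u}).Opens := U.ι ⁻¹ᵁ bO (R := CommRingCat.of A) a
    have hO : bO (R := CommRingCat.of A) a ≤ U.ι ''ᵁ O := fun p hp =>
      ⟨⟨p, bO_le_punctured ha hp⟩, hp, rfl⟩
    have hz : ∀ t : Γ(tilde (R := CommRingCat.of A) N, U.ι ''ᵁ O), t = 0 := by
      intro t
      have h1 : ((𝟙 ((RT 𝔞).obj N) : _ ⟶ _).app O) t = (0 : (RT 𝔞).obj N ⟶ (RT 𝔞).obj N).app O t := by
        rw [h.eq_of_src (𝟙 _) 0]
      exact h1
    have h2 : secMap (R := CommRingCat.of A) N (bO a) x = 0 := by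
      rw [← secRes_secMap (R := CommRingCat.of A) N hO, hz (secMap _ _ x), map_zero]
    obtain ⟨n, hn⟩ := (secMap_eq_zero_iff (R := CommRingCat.of A) N a x).mp h2
    exact ⟨n, hn⟩
  obtain ⟨m, hm⟩ := Ideal.exists_pow_le_of_le_radical_of_fg hle (IsNoetherian.noetherian 𝔞)
  exact ⟨m, fun a ha => hm ha⟩

instance : (RT 𝔞).IsLeftAdjoint :=
  ((tilde.adjunction (R := CommRingCat.of A)).comp
    (Scheme.Modules.restrictAdjunction (LocCoh.puncturedOpen A 𝔞).ι)).isLeftAdjoint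

instance : (RT 𝔞).PreservesZeroMorphisms := Functor.preservesZeroMorphisms_of_isLeftAdjoint _

theorem mono_RT {M N : ModuleCat.{u} A} (φ : M ⟶ N) [hφ : Mono φ] : Mono ((RT 𝔞).map φ) :=
  @Functor.map_mono _ _ _ _ (Scheme.Modules.restrictFunctor (LocCoh.puncturedOpen A 𝔞).ι) inferInstance _ _
    ((tilde.functor (CommRingCat.of A)).map φ) (@QCoh.tildeMap_mono (CommRingCat.of A) _ _ φ hφ)

theorem coker_torsion [IsNoetherianRing A] {M N : ModuleCat.{u} A} (φ : M ⟶ N) [Epi ((RT 𝔞).map φ)] (y : N) :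
    ∃ m : ℕ, ∀ a ∈ 𝔞 ^ m, a • y ∈ LinearMap.range φ.hom := by
  let π : N ⟶ ModuleCat.of A (N ⧸ LinearMap.range φ.hom) := ModuleCat.ofHom (LinearMap.range φ.hom).mkQ
  have hπ : Epi π := (ModuleCat.epi_iff_surjective _).mpr (Submodule.mkQ_surjective _)
  have h0 : φ ≫ π = 0 := ModuleCat.hom_ext (LinearMap.ext fun x =>
    (Submodule.Quotient.mk_eq_zero _).mpr (LinearMap.mem_range_self φ.hom x))
  have h1 : (RT 𝔞).map π = 0 := by
    rw [← cancel_epi ((RT 𝔞).map φ), ← Functor.map_comp, h0, Functor.map_zero, comp_zero]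
  haveI := (RT 𝔞).map_epi π
  obtain ⟨m, hm⟩ := torsion_of_isZero (IsZero.of_epi_eq_zero ((RT 𝔞).map π) h1) (π y)
  exact ⟨m, fun a ha => (Submodule.Quotient.mk_eq_zero _).mp
    ((Submodule.Quotient.mk_smul _ a y).trans (hm a ha))⟩

theorem ker_torsion [IsNoetherianRing A] {M N : ModuleCat.{u} A} (φ : M ⟶ N) [Mono ((RT 𝔞).map φ)] {x : M}
    (hx : φ x = 0) : ∃ m : ℕ, ∀ a ∈ 𝔞 ^ m, a • x = 0 := by
  let ι : ModuleCat.of A (LinearMap.ker φ.hom) ⟶ M := ModuleCat.ofHom (LinearMap.ker φ.hom).subtype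
  have hι : Mono ι := (ModuleCat.mono_iff_injective _).mpr Subtype.val_injective
  have h0 : ι ≫ φ = 0 := ModuleCat.hom_ext (LinearMap.ext fun z => z.2)
  have h1 : (RT 𝔞).map ι = 0 := by
    rw [← cancel_mono ((RT 𝔞).map φ), ← Functor.map_comp, h0, Functor.map_zero, zero_comp]
  haveI := mono_RT (𝔞 := 𝔞) ι
  obtain ⟨m, hm⟩ := torsion_of_isZero (IsZero.of_mono_eq_zero ((RT 𝔞).map ι) h1) (⟨x, hx⟩ : LinearMap.ker φ.hom)
  exact ⟨m, fun a ha => congrArg Subtype.val (hm a ha)⟩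

theorem isIso_RT {M N : ModuleCat.{u} A} (φ : M ⟶ N) [Mono φ]
    (h : ∀ y : N, ∃ m : ℕ, ∀ a ∈ 𝔞 ^ m, a • y ∈ LinearMap.range φ.hom) : IsIso ((RT 𝔞).map φ) := by
  haveI := mono_RT (𝔞 := 𝔞) φ
  have hz : IsZero ((RT 𝔞).obj (cokernel φ)) := by
    refine IsZero.of_iso (isZero_RT (N := ModuleCat.of A (N ⧸ LinearMap.range φ.hom)) ?_)
      ((RT 𝔞).mapIso (ModuleCat.cokernelIsoRangeQuotient φ))
    intro z
    obtain ⟨y, rfl⟩ := Submodule.Quotient.mk_surjective _ z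
    obtain ⟨m, hm⟩ := h y
    exact ⟨m, fun a ha => ((Submodule.Quotient.mk_smul _ a y).symm.trans
      ((Submodule.Quotient.mk_eq_zero _).mpr (hm a ha)))⟩
  haveI : Epi ((RT 𝔞).map φ) :=
    Preadditive.epi_of_isZero_cokernel _ (hz.of_iso (PreservesCokernel.iso (RT 𝔞) φ).symm)
  exact isIso_of_mono_of_epi _

theorem exists_fg_submodule [IsNoetherianRing A] (X : ModuleCat.{u} A) (hft : CohB1.IsFT ((RT 𝔞).obj X)) :
    ∃ N : Submodule A X, N.FG ∧ ∀ y : X, ∃ m : ℕ, ∀ a ∈ 𝔞 ^ m, a • y ∈ N := by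
  let U := LocCoh.puncturedOpen A 𝔞
  let T := tilde.functor (CommRingCat.of A)
  let R := Scheme.Modules.restrictFunctor U.ι
  let adj := tilde.adjunction (R := CommRingCat.of A)
  let Γ' := moduleSpecΓFunctor (R := CommRingCat.of A)
  have hU : IsCompact (U : Set (Spec (CommRingCat.of A))) := TopologicalSpace.NoetherianSpace.isCompact _
  have hG : Coh.IsQCoh (T.obj X) := inferInstanceAs (tilde (R := CommRingCat.of A) X).IsQuasicoherent
  obtain ⟨G', i', e, -, hq, hf, he⟩ := QCoh.exists_extension' hG (QCoh.extStep_qcqs hU) (𝟙 (R.obj (T.obj X)))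
    (QCoh.isQCoh_restrict U.ι hG) hft
  haveI := isIso_counit hq
  haveI := isIso_unit (A := A)
  let φ : Γ'.obj G' ⟶ X := Γ'.map i' ≫ inv (adj.unit.app X)
  haveI : Module.Finite A (Γ'.obj G') := finite_Γ_of_isCoh ⟨hq, hf⟩
  have hT : T.map φ = adj.counit.app G' ≫ i' := by
    have h1 : T.map (inv (adj.unit.app X)) = adj.counit.app (T.obj X) := by
      rw [Functor.map_inv, IsIso.inv_eq_of_hom_inv_id]
      exact adj.left_triangle_components X
    have h2 : T.map (Γ'.map i') ≫ adj.counit.app (T.obj X) = adj.counit.app G' ≫ i' := adj.counit.naturality i'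
    rw [Functor.map_comp, h1, h2]
  haveI : IsIso ((RT 𝔞).map φ) := by
    change IsIso (R.map (T.map φ))
    rw [hT, Functor.map_comp]
    have hei : IsIso (R.map i') := by
      rw [← he, Category.comp_id]
      infer_instance
    infer_instance
  haveI : Epi ((RT 𝔞).map φ) := IsIso.epi_of_iso _
  exact ⟨LinearMap.range φ.hom, Module.Finite.iff_fg.mp inferInstance, coker_torsion φ⟩

theorem isQuot_comp_iso {X : Scheme.{u}} [X.Over (Spec (CommRingCat.of A))] {J : Ideal A} {M N P : X.Modules}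
    {g : M ⟶ N} (hg : IsQuot J g) (e : N ⟶ P) [IsIso e] : IsQuot J (g ≫ e) := by
  haveI := hg.epi
  refine IsQuot.mk' _ (fun a ha => ?_) fun φ hφ => ?_
  · rw [← cancel_epi e, ← smulMod_naturality, killedBy_of_isQuot hg a ha, zero_comp, comp_zero]
  · obtain ⟨ψ, hψ⟩ := hg.desc φ hφ
    exact ⟨inv e ≫ ψ, by rw [Category.assoc, IsIso.hom_inv_id_assoc, hψ]⟩

theorem exists_system [IsNoetherianRing A] (I : Ideal A)
    (F : ℕᵒᵖ ⥤ (↑(LocCoh.puncturedOpen A 𝔞) : Scheme.{u}).Modules) (hF : Formal.IsCohFormal I F) :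
    ∃ (M : ℕ → Type u) (_ : ∀ n, AddCommGroup (M n)) (_ : ∀ n, Module A (M n)) (g : ∀ n, M (n + 1) →ₗ[A] M n),
      (∀ n, Module.Finite A (M n)) ∧ (∀ n, I ^ (n + 1) • (⊤ : Submodule A (M n)) = ⊥) ∧
      (∀ n (x : M (n + 1)), g n x = 0 → ∃ m : ℕ, ∀ a ∈ 𝔞 ^ m, a • x ∈ I ^ (n + 1) • (⊤ : Submodule A (M (n + 1)))) ∧
      (∀ n (y : M n), ∃ m : ℕ, ∀ a ∈ 𝔞 ^ m, a • y ∈ LinearMap.range (g n)) ∧
      Nonempty (F ≅ Functor.ofOpSequence
        (X := fun n => (Scheme.Modules.restrictFunctor (LocCoh.puncturedOpen A 𝔞).ι).obj (Formal2.tmod A (M n)))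
        (fun n => (Scheme.Modules.restrictFunctor (LocCoh.puncturedOpen A 𝔞).ι).map (Formal2.tmodMap A (g n)))) := by
  classical
  let U := LocCoh.puncturedOpen A 𝔞
  haveI : QuasiCompact U.ι := QCoh.quasiCompact_ι_of_compact U (TopologicalSpace.NoetherianSpace.isCompact _)
  obtain ⟨X, ⟨θ⟩, hkillX⟩ : ∃ X : ℕᵒᵖ ⥤ ModuleCat.{u} A, Nonempty (F ≅ X ⋙ RT 𝔞) ∧
      ∀ n, ∀ a ∈ I ^ (n + 1), ∀ x : X.obj (op n), a • x = 0 :=
    ⟨Algz.sectMod A U F, nonempty_iso_sectSys U F (fun n => (hF.1 n).1),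
      fun n _ ha x => smul_sect_eq_zero U _ (hF.2.1 n) ha x⟩
  let θn : ∀ n, F.obj (op n) ≅ (RT 𝔞).obj (X.obj (op n)) := fun n => θ.app (op n)
  have hft : ∀ n, CohB1.IsFT ((RT 𝔞).obj (X.obj (op n))) := fun n =>
    (isCoh_of_epi (θn n).hom (hF.1 n) (QCoh.isQCoh_restrict U.ι
      (inferInstanceAs (tilde (R := CommRingCat.of A) (X.obj (op n))).IsQuasicoherent))).2
  choose N hNfg hN using fun n => exists_fg_submodule (𝔞 := 𝔞) (X.obj (op n)) (hft n)
  let t : ∀ n, X.obj (op (n + 1)) →ₗ[A] X.obj (op n) := fun n => (X.map (homOfLE (Nat.le_succ n)).op).hom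
  let S : ∀ n, Submodule A (X.obj (op n)) := fun n =>
    Nat.rec (motive := fun n => Submodule A (X.obj (op n))) (N 0) (fun k Sk => N (k + 1) ⊓ Submodule.comap (t k) Sk) n
  have hS : ∀ n, (S n).FG ∧ ∀ y : X.obj (op n), ∃ m : ℕ, ∀ a ∈ 𝔞 ^ m, a • y ∈ S n := by
    intro n
    induction n with
    | zero => exact ⟨hNfg 0, hN 0⟩
    | succ k ih =>
      refine ⟨?_, fun y => ?_⟩
      · haveI : Module.Finite A (N (k + 1)) := Module.Finite.iff_fg.mpr (hNfg (k + 1))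
        haveI : IsNoetherian A (N (k + 1)) := isNoetherian_of_isNoetherianRing_of_finite A _
        haveI := isNoetherian_of_le (inf_le_left : N (k + 1) ⊓ Submodule.comap (t k) (S k) ≤ N (k + 1))
        exact Module.Finite.iff_fg.mp (Module.IsNoetherian.finite A (N (k + 1) ⊓ Submodule.comap (t k) (S k) : Submodule A _))
      · obtain ⟨m, hm⟩ := hN (k + 1) y
        obtain ⟨m', hm'⟩ := ih.2 (t k y)
        refine ⟨m + m', fun a ha => ⟨hm a (Ideal.pow_le_pow_right (Nat.le_add_right _ _) ha), ?_⟩⟩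
        change t k (a • y) ∈ S k
        rw [map_smul]
        exact hm' a (Ideal.pow_le_pow_right (Nat.le_add_left _ _) ha)
  let g : ∀ n, S (n + 1) →ₗ[A] S n := fun n => (t n).restrict fun y hy => hy.2
  let gC : ∀ n, ModuleCat.of A (S (n + 1)) ⟶ ModuleCat.of A (S n) := fun n => ModuleCat.ofHom (g n)
  let incl : ∀ n, ModuleCat.of A (S n) ⟶ X.obj (op n) := fun n => ModuleCat.ofHom (S n).subtype
  haveI : ∀ n, Mono (incl n) := fun n => (ModuleCat.mono_iff_injective _).mpr Subtype.val_injective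
  haveI hincl : ∀ n, IsIso ((RT 𝔞).map (incl n)) := fun n => isIso_RT (incl n) fun y => by
    obtain ⟨m, hm⟩ := (hS n).2 y
    exact ⟨m, fun a ha => ⟨⟨a • y, hm a ha⟩, rfl⟩⟩
  have hsq : ∀ n, gC n ≫ incl n = incl (n + 1) ≫ X.map (homOfLE (Nat.le_succ n)).op := fun n => rfl
  have hkill : ∀ n, I ^ (n + 1) • (⊤ : Submodule A (S n)) = ⊥ := fun n => by
    rw [eq_bot_iff, Submodule.smul_le]
    intro a ha y _
    exact (Submodule.mem_bot A).mpr (Subtype.ext (hkillX n a ha (y : X.obj (op n))))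
  letI : (Spec (CommRingCat.of A)).Over (Spec (CommRingCat.of A)) := ⟨𝟙 _⟩
  have hquot : ∀ n, IsQuot (I ^ (n + 1)) ((RT 𝔞).map (gC n)) := by
    intro n
    have hstep : IsQuot (I ^ (n + 1)) (F.map (homOfLE (Nat.le_succ n)).op) := hF.2.2 n
    have hnat : F.map (homOfLE (Nat.le_succ n)).op ≫ (θn n).hom =
        (θn (n + 1)).hom ≫ (RT 𝔞).map (X.map (homOfLE (Nat.le_succ n)).op) := θ.hom.naturality _
    let p := (θn (n + 1)).hom ≫ inv ((RT 𝔞).map (incl (n + 1)))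
    refine isQuot_of_comp p ?_
    have e : p ≫ (RT 𝔞).map (gC n) =
        F.map (homOfLE (Nat.le_succ n)).op ≫ ((θn n).hom ≫ inv ((RT 𝔞).map (incl n))) := by
      rw [← Category.assoc, hnat, IsIso.eq_comp_inv]
      simp only [p, Category.assoc]
      rw [← Functor.map_comp, hsq, Functor.map_comp, IsIso.inv_hom_id_assoc]
    rw [e]
    exact isQuot_comp_iso hstep _
  have hker : ∀ n (x : S (n + 1)), g n x = 0 →
      ∃ m : ℕ, ∀ a ∈ 𝔞 ^ m, a • x ∈ I ^ (n + 1) • (⊤ : Submodule A (S (n + 1))) := by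
    intro n x hx
    let J : Submodule A (S (n + 1)) := I ^ (n + 1) • ⊤
    have hJ : J ≤ LinearMap.ker (g n) := Submodule.smul_le.mpr fun a ha y _ => by
      rw [LinearMap.mem_ker, map_smul]
      have := (hkill n).le (Submodule.smul_mem_smul ha (Submodule.mem_top (x := g n y)))
      exact (Submodule.mem_bot A).mp this
    let q : ModuleCat.of A (S (n + 1)) ⟶ ModuleCat.of A (S (n + 1) ⧸ J) := ModuleCat.ofHom J.mkQ
    let h : ModuleCat.of A (S (n + 1) ⧸ J) ⟶ ModuleCat.of A (S n) := ModuleCat.ofHom (J.liftQ (g n) hJ)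
    have hqh : q ≫ h = gC n := rfl
    have hq : IsQuot (I ^ (n + 1)) ((RT 𝔞).map q) :=
      IsQuot.restrict U.ι (Category.comp_id _)
        (isQuot_tilde_map q (Submodule.mkQ_surjective J) (Submodule.ker_mkQ J))
    obtain ⟨e, he⟩ := isQuot_unique hq (hquot n)
    haveI := hq.epi
    have hh : (RT 𝔞).map h = e.hom := by
      rw [← cancel_epi ((RT 𝔞).map q), he, ← Functor.map_comp, hqh]
    haveI : Mono ((RT 𝔞).map h) := by rw [hh]; infer_instance
    obtain ⟨m, hm⟩ := ker_torsion (𝔞 := 𝔞) h (x := q x) hx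
    exact ⟨m, fun a ha => (Submodule.Quotient.mk_eq_zero J).mp
      ((Submodule.Quotient.mk_smul J a x).trans (hm a ha))⟩
  have hcok : ∀ n (y : S n), ∃ m : ℕ, ∀ a ∈ 𝔞 ^ m, a • y ∈ LinearMap.range (g n) := by
    intro n y
    haveI := (hquot n).epi
    exact coker_torsion (𝔞 := 𝔞) (gC n) y
  let F' := Functor.ofOpSequence (X := fun n => (RT 𝔞).obj (ModuleCat.of A (S n))) (fun n => (RT 𝔞).map (gC n))
  let η : F' ⟶ X ⋙ RT 𝔞 :=
    NatTrans.ofOpSequence (fun n => (RT 𝔞).map (incl n)) fun n => by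
      rw [Functor.ofOpSequence_map_homOfLE_succ]
      exact ((RT 𝔞).map_comp _ _).symm.trans ((congrArg _ (hsq n)).trans ((RT 𝔞).map_comp _ _))
  haveI : ∀ n, IsIso (η.app n) := fun n => hincl n.unop
  haveI : IsIso η := NatIso.isIso_of_isIso_app η
  exact ⟨fun n => S n, inferInstance, inferInstance, g, fun n => Module.Finite.iff_fg.mpr (hS n).1, hkill, hker,
    hcok, ⟨θ ≪≫ (asIso η).symm⟩⟩

end Groth.Agent.PunctCoh79.ModSys
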