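import Groth.Agent.SiteBase.OpenRestr
import Groth.Agent.PunctCoh79.FastInst
import Groth.Prelude.Def_Coh

/-!
# `H^n(U, M|_U)` on the open subscheme is `H^n(U, M)`
-/

universe u

open CategoryTheory AlgebraicGeometry TopologicalSpace

namespace Groth.Agent.PunctCoh79

/-- Abelian sheaf of a restricted module. -/
noncomputable def restrictAbIso (X : Scheme.{u}) (M : X.Modules) (U : X.Opens) :
    Coh.toAb (M.restrict U.ι) ≅ CohTop.restr (X := X.toTopCat) (Coh.toAb M) U :=
  (sheafToPresheaf _ _).preimageIso (NatIso.ofComponents (fun _ => Iso.refl _) fun _ => by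
    ext x; rfl)

/-- `Ext^n(X, -)` of isomorphic objects -/
noncomputable def extIsoEquiv {A : Type*} [Category A] [Abelian A] [HasExt.{u} A] (X : A) {F G : A}
    (e : F ≅ G) (n : ℕ) : Abelian.Ext X F n ≃+ Abelian.Ext X G n :=
  ((Abelian.extFunctorObj X n).mapIso e).addCommGroupIsoToAddEquiv

theorem nonempty_HHon_equiv_HU (X : Scheme.{u}) (M : X.Modules) (U : X.Opens) (n : ℕ) :
    Nonempty (Coh.HH (↑U) (M.restrict U.ι) n ≃+ CohTop.HU (X := X.toTopCat) (Coh.toAb M) n U) := by
  obtain ⟨e⟩ := SiteBase.nonempty_HU_addEquiv_H_restr (X := X.toTopCat) U (Coh.toAb M) n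
  exact ⟨(extIsoEquiv _ (restrictAbIso X M U) n).trans e.symm⟩

end Groth.Agent.PunctCoh79
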