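import Groth.Agent.PunctCoh79.Retract
import Groth.Agent.PunctCoh79.DualLite
import Groth.Agent.QCoh.LocFree
import Groth.Agent.QCoh.Qcqs
import Mathlib.AlgebraicGeometry.QuasiAffine

/-!
# On a quasi-affine scheme a locally free module is locally a retract, with global data
-/

universe u

set_option backward.isDefEq.respectTransparency false
set_option backward.isDefEq.respectTransparency.types false

open CategoryTheory CategoryTheory.Limits AlgebraicGeometry TopologicalSpace Opposite

noncomputable section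

namespace Groth.Agent.PunctCoh79

open Groth.Agent.AModX Groth.Agent.PunctCoh79.DualLite

variable {X : Scheme.{u}} {E : X.Modules}

/-- the map to `O` given by a global form -/
def formHom (F : Γ(dual E, ⊤)) : E ⟶ Coh.structureModule X where
  val := PresheafOfModules.homMk
    { app := fun V => AddCommGrpCat.ofHom (AddMonoidHom.mk'
        (fun m => (show Γ(Coh.structureModule X, V.unop) from pairVal m (res (dual E) le_top F)))
        fun m m' => map_add _ m m')
      naturality := fun V W i => by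
        ext m
        show pairVal (res E i.unop.le m) (res (dual E) le_top F) = resR i.unop.le (pairVal m (res (dual E) le_top F))
        rw [pairVal_res, res_res] }
    fun V a m => pairVal_smul_left a m (res (dual E) le_top F)

theorem formHom_app (F : Γ(dual E, ⊤)) (V : X.Opens) (m : Γ(E, V)) :
    (show Γ(X, V) from (formHom F).app V m) = pairVal m (res (dual E) le_top F) := rfl

/-- a global function killing a morphism near a cover by frames -/
theorem exists_pow_smul_eq_zero_hom [CompactSpace X] (hE : FlatMod.IsFinLocFree E) (δ : E ⟶ E) (r : Γ(X, ⊤))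
    (hδ : ∀ (W : X.Opens), W ≤ X.basicOpen r → ∀ m : Γ(E, W), δ.app W m = 0) :
    ∃ K : ℕ, δ ≫ smulΓ E (r ^ K) = 0 := by
  classical
  have hqc := QCoh.isQCoh_of_isFinLocFree hE
  have hloc : ∀ x : X, ∃ V : X.Opens, x ∈ V ∧ ∃ K : ℕ, ∀ (W : X.Opens), W ≤ V → ∀ m : Γ(E, W),
      resR (le_top : W ≤ ⊤) r ^ K • δ.app W m = 0 := by
    intro x
    obtain ⟨U, n, hxU, ⟨e⟩⟩ := hE x
    obtain ⟨s, hs⟩ := H23.Frame.exists_frame e
    obtain ⟨_, ⟨V, hV, rfl⟩, hxV, hVU⟩ := X.isBasis_affineOpens.exists_subset_of_mem_open hxU U.2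
    have hk : ∀ j, ∃ k, resR (le_top : V ≤ ⊤) r ^ k • δ.app V (res E hVU (s j)) = 0 := fun j => by
      refine QCoh.exists_pow_smul_eq_zero_of_isCompact hqc hV.isCompact _ _ ?_
      show res E (X.basicOpen_le _) _ = 0
      rw [← app_res]
      exact hδ _ (show X.basicOpen (resR (le_top : V ≤ ⊤) r) ≤ X.basicOpen r from
        (X.basicOpen_res r (homOfLE (le_top : V ≤ ⊤)).op).le.trans inf_le_right) _
    choose k hk using hk
    refine ⟨V, hxV, ∑ j, k j, fun W hW m => ?_⟩
    rw [← sum_coord hs W (hW.trans hVU) m, map_sum, Finset.smul_sum]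
    refine Finset.sum_eq_zero fun j _ => ?_
    obtain ⟨d, hd⟩ := Nat.exists_eq_add_of_le
      (Finset.single_le_sum (f := k) (fun _ _ => Nat.zero_le _) (Finset.mem_univ j))
    have e0 := congrArg (res E hW) (hk j)
    rw [map_zero, res_smul, map_pow, resR_resR, ← app_res, res_res] at e0
    rw [Scheme.Modules.Hom.app_smul, smul_comm, hd, pow_add, mul_comm, mul_smul, e0, smul_zero, smul_zero]
  choose V hxV K hK using hloc
  obtain ⟨T, hT⟩ := isCompact_univ.elim_finite_subcover (fun x : X => (V x : Set X)) (fun x => (V x).2)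
    (fun x _ => Set.mem_iUnion.2 ⟨x, hxV x⟩)
  refine ⟨∑ x ∈ T, K x, Scheme.Modules.hom_ext _ _ fun W => ?_⟩
  ext m
  refine eq_of_locally _ _ fun p hp => ?_
  obtain ⟨x, hxT, hpx⟩ := Set.mem_iUnion₂.1 (hT (Set.mem_univ p))
  refine ⟨W ⊓ V x, inf_le_left, ⟨hp, hpx⟩, ?_⟩
  show res E inf_le_left (resR (le_top : W ≤ ⊤) (r ^ (∑ x ∈ T, K x)) • δ.app W m) = res E inf_le_left 0
  obtain ⟨d, hd⟩ := Nat.exists_eq_add_of_le (Finset.single_le_sum (f := K) (fun _ _ => Nat.zero_le _) hxT)
  rw [map_zero, res_smul, resR_resR, ← app_res, map_pow, hd, pow_add, mul_comm, mul_smul,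
    hK x _ inf_le_right, smul_zero]

theorem exists_retractScalar [X.IsQuasiAffine] (hE : FlatMod.IsFinLocFree E) (x : X) :
    ∃ r : Γ(X, ⊤), x ∈ X.basicOpen r ∧ IsRetractScalar E r := by
  classical
  obtain ⟨U, n, hxU, ⟨e⟩⟩ := hE x
  obtain ⟨s, hs⟩ := H23.Frame.exists_frame e
  obtain ⟨_, ⟨_, ⟨r, -, rfl⟩, rfl⟩, hxr, hrU⟩ :=
    (Scheme.IsQuasiAffine.isBasis_basicOpen X).exists_subset_of_mem_open hxU U.2
  have hqs : IsQuasiSeparated ((⊤ : X.Opens) : Set X) := isQuasiSeparated_univ
  have hqc : IsCompact ((⊤ : X.Opens) : Set X) := isCompact_univ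
  let rD := resR (X.basicOpen_le r) r
  choose a t ht using fun i => QCoh.exists_pow_smul_eq_map_of_isQuasiSeparated
    (QCoh.isQCoh_of_isFinLocFree hE) hqc hqs r (res E hrU (s i))
  choose b F hF using fun i => QCoh.exists_pow_smul_eq_map_of_isQuasiSeparated
    (QCoh.isQCoh_of_isFinLocFree (isFinLocFree_dual hE)) hqc hqs r (res (dual E) hrU (coordForm hs i))
  let N := ∑ i, (a i + b i)
  have hN : ∀ i, a i ≤ N ∧ b i ≤ N := fun i =>
    ⟨(Nat.le_add_right _ _).trans (Finset.single_le_sum (f := fun i => a i + b i) (fun _ _ => Nat.zero_le _) (Finset.mem_univ i)),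
      (Nat.le_add_left _ _).trans (Finset.single_le_sum (f := fun i => a i + b i) (fun _ _ => Nat.zero_le _) (Finset.mem_univ i))⟩
  let T : Fin n → Γ(E, ⊤) := fun i => r ^ (N - a i) • t i
  let G : Fin n → Γ(dual E, ⊤) := fun i => r ^ (N - b i) • F i
  let δ : E ⟶ E := ∑ i, formHom (G i) ≫ InvX.ofSect (T i) - smulΓ E (r ^ (N + N))
  obtain ⟨K, hK⟩ := exists_pow_smul_eq_zero_hom hE δ r fun W hW m => by
    have hT : ∀ i, res E (le_top : W ≤ ⊤) (T i) = resR (le_top : W ≤ ⊤) r ^ N • res E (hW.trans hrU) (s i) := by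
      intro i
      have e1 : res E hW (res E (X.basicOpen_le r) (t i)) = res E hW (rD ^ a i • res E hrU (s i)) :=
        congrArg (res E hW) (ht i)
      rw [res_smul, map_pow, resR_resR, res_res, res_res] at e1
      rw [res_smul, map_pow, e1, smul_smul, ← pow_add, Nat.sub_add_cancel (hN i).1]
    have hG : ∀ i, res (dual E) (le_top : W ≤ ⊤) (G i) =
        resR (le_top : W ≤ ⊤) r ^ N • res (dual E) (hW.trans hrU) (coordForm hs i) := by
      intro i
      have e1 : res (dual E) hW (res (dual E) (X.basicOpen_le r) (F i)) =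
          res (dual E) hW (rD ^ b i • res (dual E) hrU (coordForm hs i)) :=
        congrArg (res (dual E) hW) (hF i)
      rw [res_smul, map_pow, resR_resR, res_res, res_res] at e1
      rw [res_smul, map_pow, e1, smul_smul, ← pow_add, Nat.sub_add_cancel (hN i).2]
    have hterm : ∀ i, (formHom (G i) ≫ InvX.ofSect (T i)).app W m =
        resR (le_top : W ≤ ⊤) r ^ (N + N) • coord hs W (hW.trans hrU) m i • res E (hW.trans hrU) (s i) := by
      intro i
      show (InvX.ofSect (T i)).app W ((formHom (G i)).app W m) = _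
      rw [InvX.app_eq_smul, InvX.one_ofSect, hT]
      show pairVal m (res (dual E) le_top (G i)) • _ = _
      rw [hG, pairVal_smul_right, pairVal_coordForm, smul_smul, smul_smul]
      congr 1
      rw [pow_add]
      ring
    show (∑ i, formHom (G i) ≫ InvX.ofSect (T i)).app W m - (smulΓ E (r ^ (N + N))).app W m = 0
    rw [H23.Frame.app_sum, Finset.sum_congr rfl fun i _ => hterm i, ← Finset.smul_sum, sum_coord, smulΓ_app,
      map_pow, sub_self]
  refine ⟨r ^ (N + N + K + 1), ?_, n, fun i => formHom (G i), fun i => InvX.ofSect (T i) ≫ smulΓ E (r ^ (K + 1)), ?_⟩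
  · rw [X.basicOpen_pow r (Nat.succ_pos (N + N + K))]
    exact hxr
  have h2 : ∀ a b : Γ(X, ⊤), smulΓ E (a * b) = smulΓ E b ≫ smulΓ E a := fun a b => by
    refine Scheme.Modules.hom_ext _ _ fun W => ?_
    ext m
    show resR (le_top : W ≤ ⊤) (a * b) • m = _
    rw [map_mul, mul_smul]
    rfl
  have h0 : δ ≫ smulΓ E (r ^ (K + 1)) = 0 := by
    rw [pow_succ', h2, ← Category.assoc, hK, zero_comp]
  rw [Preadditive.sub_comp, Preadditive.sum_comp, sub_eq_zero] at h0
  simp only [Category.assoc] at h0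
  rw [h0, ← h2, ← pow_add]
  congr 2
  omega

/-- Formal sections of a locally free module on a quasi-affine scheme. -/
theorem toHHlim_zero_bijective_of_quasiAffine {A : Type u} [CommRing A] (I : Ideal A)
    [X.Over (Spec (CommRingCat.of A))] [X.IsQuasiAffine]
    (h : Function.Bijective (Formal.toHHlim I (Coh.structureModule X) 0)) (hE : FlatMod.IsFinLocFree E) :
    Function.Bijective (Formal.toHHlim I E 0) := by
  choose r hr hr' using exists_retractScalar hE
  exact toHHlim_zero_bijective I h E (fun x => ⟨x, hr x⟩) hr'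

end Groth.Agent.PunctCoh79
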