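import Groth.Agent.PunctCoh79.SmulMod
import Groth.Agent.InvX.GenLocus
import Groth.Prelude.Def_Formal
import Groth.Agent.AModX.Res
import Groth.Agent.InvX.Tensor

/-!
# Formal sections of modules which are locally retracts of free modules, scalar-compatibly
-/

universe u

set_option backward.isDefEq.respectTransparency false
set_option backward.isDefEq.respectTransparency.types false

open CategoryTheory CategoryTheory.Limits AlgebraicGeometry TopologicalSpace Opposite

namespace Groth.Agent.PunctCoh79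

open Groth.Agent.AModX

variable {X : Scheme.{u}}

/-- multiplication by a global function -/
noncomputable abbrev smulΓ (M : X.Modules) (r : Γ(X, ⊤)) : M ⟶ M := Formal.smulModΓ M r

theorem smulΓ_app (M : X.Modules) (r : Γ(X, ⊤)) (U : X.Opens) (m : Γ(M, U)) :
    (smulΓ M r).app U m = resR (le_top : U ≤ ⊤) r • m := rfl

theorem smulΓ_naturality {M N : X.Modules} (φ : M ⟶ N) (r : Γ(X, ⊤)) :
    smulΓ M r ≫ φ = φ ≫ smulΓ N r := by
  refine Scheme.Modules.hom_ext _ _ fun U => ?_
  ext m
  exact Scheme.Modules.Hom.app_smul φ _ m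

theorem one_comp {M N : X.Modules} (s : Coh.structureModule X ⟶ M) (φ : M ⟶ N) :
    InvX.one (s ≫ φ) = φ.app ⊤ (InvX.one s) := rfl

theorem hom_unit_ext {M : X.Modules} {s t : Coh.structureModule X ⟶ M} (h : InvX.one s = InvX.one t) : s = t := by
  refine Scheme.Modules.hom_ext _ _ fun W => ?_
  ext r
  exact (InvX.app_eq_smul s r).trans ((congrArg (fun z => (show Γ(X, W) from r) •
    res M (le_top : W ≤ ⊤) z) h).trans (InvX.app_eq_smul t r).symm)

/-- The class of a map out of the structure sheaf. -/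
noncomputable def cls {F : X.Modules} (y : Coh.structureModule X ⟶ F) : Coh.HH X F 0 :=
  (Sheaf.H.equiv₀ (Coh.toAb F) isTerminalTop).symm (InvX.one y)

theorem map_cls {F G : X.Modules} (y : Coh.structureModule X ⟶ F) (g : F ⟶ G) :
    Sheaf.H.map ((SheafOfModules.toSheaf _).map g) 0 (cls y) = cls (y ≫ g) :=
  Sheaf.H.equiv₀_symm_naturality isTerminalTop ((SheafOfModules.toSheaf _).map g) _

theorem cls_injective {F : X.Modules} : Function.Injective (cls (F := F)) := fun y y' h => by
  refine Scheme.Modules.hom_ext _ _ fun W => ?_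
  ext r
  exact (InvX.app_eq_smul y r).trans ((congrArg (fun z => (show Γ(X, W) from r) • AModX.res F (le_top : W ≤ ⊤) z)
    ((Sheaf.H.equiv₀ (Coh.toAb F) isTerminalTop).symm.injective h)).trans (InvX.app_eq_smul y' r).symm)

theorem cls_surjective {F : X.Modules} : Function.Surjective (cls (F := F)) := fun h =>
  ⟨InvX.ofSect (Sheaf.H.equiv₀ (Coh.toAb F) isTerminalTop h),
    (congrArg (Sheaf.H.equiv₀ (Coh.toAb F) isTerminalTop).symm (InvX.one_ofSect _)).trans
      (AddEquiv.symm_apply_apply _ _)⟩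

theorem cls_zero {F : X.Modules} : cls (0 : Coh.structureModule X ⟶ F) = 0 :=
  (congrArg (Sheaf.H.equiv₀ (Coh.toAb F) isTerminalTop).symm
    (show InvX.one (0 : Coh.structureModule X ⟶ F) = 0 from rfl)).trans
    (map_zero (Sheaf.H.equiv₀ (Coh.toAb F) isTerminalTop).symm)

variable {κ : Type u} {r : κ → Γ(X, ⊤)} (hcov : ∀ x : X, ∃ k, x ∈ X.basicOpen (r k))
include hcov

theorem eq_of_smul_cover {F : X.Modules} {s t : Coh.structureModule X ⟶ F}
    (h : ∀ k, s ≫ smulΓ F (r k) = t ≫ smulΓ F (r k)) : s = t := by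
  refine hom_unit_ext (eq_of_locally _ _ fun p _ => ?_)
  obtain ⟨k, hk⟩ := hcov p
  refine ⟨X.basicOpen (r k), le_top, hk, ?_⟩
  have e := congrArg InvX.one (h k)
  rw [one_comp, one_comp, smulΓ_app, smulΓ_app] at e
  have e' := congrArg (res F (le_top : X.basicOpen (r k) ≤ ⊤)) e
  rw [res_smul, res_smul, resR_self] at e'
  exact ((isUnit_resR (le_top : X.basicOpen (r k) ≤ ⊤) (r k) le_rfl).smul_left_cancel).1 e'

theorem exists_smul_eq {F : X.Modules} (S : κ → (Coh.structureModule X ⟶ F))
    (hS : ∀ k l, S k ≫ smulΓ F (r l) = S l ≫ smulΓ F (r k)) :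
    ∃ e : Coh.structureModule X ⟶ F, ∀ k, e ≫ smulΓ F (r k) = S k := by
  let u : ∀ k, Γ(X, X.basicOpen (r k))ˣ := fun k =>
    (isUnit_resR (le_top : X.basicOpen (r k) ≤ ⊤) (r k) le_rfl).unit
  let sf : ∀ k, Γ(F, X.basicOpen (r k)) := fun k => (↑(u k)⁻¹ : Γ(X, X.basicOpen (r k))) • res F le_top (InvX.one (S k))
  have hsf : ∀ k, resR (le_top : X.basicOpen (r k) ≤ ⊤) (r k) • sf k = res F le_top (InvX.one (S k)) := fun k => by
    show (↑(u k) : Γ(X, X.basicOpen (r k))) • ((↑(u k)⁻¹ : Γ(X, X.basicOpen (r k))) • _) = _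
    rw [smul_smul, Units.mul_inv, one_smul]
  have hS' : ∀ k l, r l • InvX.one (S k) = r k • InvX.one (S l) := fun k l => by
    have e := congrArg InvX.one (hS k l)
    rw [one_comp, one_comp, smulΓ_app, smulΓ_app, resR_self, resR_self] at e
    exact e
  have hagree : ∀ k l, res F inf_le_left (sf k) =
      res F (inf_le_right : X.basicOpen (r k) ⊓ X.basicOpen (r l) ≤ X.basicOpen (r l)) (sf l) := by
    intro k l
    let W := X.basicOpen (r k) ⊓ X.basicOpen (r l)
    have hk : IsUnit (resR (le_top : W ≤ ⊤) (r k)) := isUnit_resR _ _ inf_le_left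
    have hl : IsUnit (resR (le_top : W ≤ ⊤) (r l)) := isUnit_resR _ _ inf_le_right
    refine (hk.mul hl).smul_left_cancel.1 ?_
    have e1 := congrArg (res F (inf_le_left : W ≤ X.basicOpen (r k))) (hsf k)
    have e2 := congrArg (res F (inf_le_right : W ≤ X.basicOpen (r l))) (hsf l)
    rw [res_smul, res_res, resR_resR] at e1 e2
    rw [mul_comm, mul_smul, e1, mul_comm, mul_smul, e2, ← res_smul, ← res_smul, hS']
  obtain ⟨e, he, -⟩ := existsUnique_glue (M := F) (fun k => X.basicOpen (r k)) (fun _ => le_top)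
    (fun p _ => hcov p) sf hagree
  refine ⟨InvX.ofSect e, fun k => hom_unit_ext ?_⟩
  rw [one_comp, InvX.one_ofSect, smulΓ_app, resR_self]
  refine eq_of_locally _ _ fun p _ => ?_
  obtain ⟨l, hl⟩ := hcov p
  refine ⟨X.basicOpen (r l), le_top, hl, ?_⟩
  refine (isUnit_resR (le_top : X.basicOpen (r l) ≤ ⊤) (r l) le_rfl).smul_left_cancel.1 ?_
  rw [res_smul, he, smul_comm, hsf, ← res_smul, ← res_smul, hS']

omit hcov

variable {A : Type u} [CommRing A] [X.Over (Spec (CommRingCat.of A))]

/-- the map on quotients -/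
noncomputable def modMap (I : Ideal A) (n : ℕ) {M N : X.Modules} (φ : M ⟶ N) :
    Formal.modPow I n M ⟶ Formal.modPow I n N :=
  cokernel.desc _ (φ ≫ Formal.modPowπ I n N) (by
    refine Sigma.hom_ext _ _ fun a => ?_
    rw [comp_zero, ← Category.assoc, Formal.smulFamily, Sigma.ι_desc, ← Category.assoc,
      smulMod_naturality, Category.assoc]
    have h : Formal.smulMod A N (a : A) ≫ cokernel.π (Formal.smulFamily (I ^ n) N) = 0 := by
      have := congrArg (Sigma.ι (fun _ : ↥(I ^ n) => N) a ≫ ·) (cokernel.condition (Formal.smulFamily (I ^ n) N))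
      simp only [comp_zero] at this
      rwa [← Category.assoc, Formal.smulFamily, Sigma.ι_desc] at this
    show φ ≫ Formal.smulMod A N (a : A) ≫ cokernel.π (Formal.smulFamily (I ^ n) N) = 0
    rw [h, comp_zero])

theorem π_modMap (I : Ideal A) (n : ℕ) {M N : X.Modules} (φ : M ⟶ N) :
    Formal.modPowπ I n M ≫ modMap I n φ = φ ≫ Formal.modPowπ I n N :=
  cokernel.π_desc _ _ _

theorem trans_modMap (I : Ideal A) (n : ℕ) {M N : X.Modules} (φ : M ⟶ N) :
    modMap I (n + 1) φ ≫ Formal.modPowTrans I n N = Formal.modPowTrans I n M ≫ modMap I n φ := by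
  have : Epi (Formal.modPowπ I (n + 1) M) := coequalizer.π_epi
  rw [← cancel_epi (Formal.modPowπ I (n + 1) M), ← Category.assoc, π_modMap, Category.assoc,
    Formal.modPowπ_trans, ← Category.assoc, Formal.modPowπ_trans, π_modMap]

/-- the scalar decomposition `r = ∑ φ_i ψ_i` -/
def IsRetractScalar (E : X.Modules) (r : Γ(X, ⊤)) : Prop :=
  ∃ (m : ℕ) (φ : Fin m → (E ⟶ Coh.structureModule X)) (ψ : Fin m → (Coh.structureModule X ⟶ E)),
    ∑ i, φ i ≫ ψ i = smulΓ E r

theorem toHHlim_zero_bijective (I : Ideal A)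
    (h : Function.Bijective (Formal.toHHlim I (Coh.structureModule X) 0)) (E : X.Modules)
    (hcov : ∀ x : X, ∃ k, x ∈ X.basicOpen (r k)) (hr : ∀ k, IsRetractScalar E (r k)) :
    Function.Bijective (Formal.toHHlim I E 0) := by
  choose m φ ψ hφψ using hr
  let O := Coh.structureModule X
  have hval : ∀ (F : X.Modules) (e : O ⟶ F) (n : ℕ),
      (Formal.toHHlim I F 0 (cls e) : ∀ n, Formal.HHmodPow I F 0 n) n =
        cls (e ≫ Formal.modPowπ I (n + 1) F) := fun F e n => map_cls e _
  have hO : ∀ a : O ⟶ O, (∀ n, a ≫ Formal.modPowπ I (n + 1) O = 0) → a = 0 := by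
    intro a ha
    refine cls_injective (h.1 (Subtype.ext (funext fun n => ?_)))
    rw [hval, hval, ha, zero_comp]
  have hE : ∀ e : O ⟶ E, (∀ n, e ≫ Formal.modPowπ I (n + 1) E = 0) → e = 0 := by
    intro e he
    refine eq_of_smul_cover hcov fun k => ?_
    rw [zero_comp, ← hφψ k, Preadditive.comp_sum]
    refine Finset.sum_eq_zero fun i _ => ?_
    rw [← Category.assoc, hO (e ≫ φ k i) fun n => by rw [Category.assoc, ← π_modMap, ← Category.assoc, he, zero_comp],
      zero_comp]
  refine ⟨(injective_iff_map_eq_zero _).2 fun z hz => ?_, fun y => ?_⟩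
  · obtain ⟨e, rfl⟩ := cls_surjective z
    have h0 : ∀ n, e ≫ Formal.modPowπ I (n + 1) E = 0 := fun n => by
      refine cls_injective ?_
      rw [cls_zero]
      exact (hval E e n).symm.trans (congrFun (congrArg Subtype.val hz) n)
    rw [hE e h0]
    exact cls_zero
  · choose yh hyh using fun n => cls_surjective ((y : ∀ n, Formal.HHmodPow I E 0 n) n)
    have hy : ∀ n, yh (n + 1) ≫ Formal.modPowTrans I (n + 1) E = yh n := fun n => by
      refine cls_injective ?_
      rw [hyh, ← map_cls, hyh]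
      exact y.2 n
    have ha : ∀ k i, ∃ a : O ⟶ O, ∀ n, a ≫ Formal.modPowπ I (n + 1) O = yh n ≫ modMap I (n + 1) (φ k i) := by
      intro k i
      obtain ⟨z, hz⟩ := h.2 ⟨fun n => cls (yh n ≫ modMap I (n + 1) (φ k i)), fun n =>
        (map_cls _ (Formal.modPowTrans I (n + 1) O)).trans (congrArg cls (by
          rw [Category.assoc, trans_modMap, ← Category.assoc, hy]))⟩
      obtain ⟨a, rfl⟩ := cls_surjective z
      refine ⟨a, fun n => cls_injective ?_⟩
      exact (hval O a n).symm.trans (congrFun (congrArg Subtype.val hz) n)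
    choose a ha using ha
    let S : κ → (O ⟶ E) := fun k => ∑ i, a k i ≫ ψ k i
    have hS : ∀ k n, S k ≫ Formal.modPowπ I (n + 1) E = yh n ≫ smulΓ _ (r k) := by
      intro k n
      have e : ∑ i, modMap I (n + 1) (φ k i) ≫ modMap I (n + 1) (ψ k i) = smulΓ _ (r k) := by
        have : Epi (Formal.modPowπ I (n + 1) E) := coequalizer.π_epi
        rw [← cancel_epi (Formal.modPowπ I (n + 1) E), Preadditive.comp_sum, ← smulΓ_naturality, ← hφψ k,
          Preadditive.sum_comp]
        exact Finset.sum_congr rfl fun i _ => by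
          rw [← Category.assoc, π_modMap, Category.assoc, π_modMap, Category.assoc]
      rw [← e, Preadditive.sum_comp, Preadditive.comp_sum]
      exact Finset.sum_congr rfl fun i _ => by
        rw [Category.assoc, ← π_modMap, ← Category.assoc, ha, Category.assoc]
    obtain ⟨e, he⟩ := exists_smul_eq hcov S fun k l => by
      rw [← sub_eq_zero]
      refine hE _ fun n => ?_
      rw [Preadditive.sub_comp, Category.assoc, Category.assoc, smulΓ_naturality, smulΓ_naturality,
        ← Category.assoc, ← Category.assoc, hS, hS, Category.assoc, Category.assoc, sub_eq_zero]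
      congr 1
      refine Scheme.Modules.hom_ext _ _ fun U => ?_
      ext z
      exact smul_comm (show Γ(X, U) from resR (le_top : U ≤ ⊤) (r l)) (show Γ(X, U) from resR (le_top : U ≤ ⊤) (r k))
        (show Γ(Formal.modPow I (n + 1) E, U) from z)
    refine ⟨cls e, Subtype.ext (funext fun n => ?_)⟩
    rw [hval, ← hyh n]
    congr 1
    refine eq_of_smul_cover hcov fun k => ?_
    rw [Category.assoc, ← smulΓ_naturality, ← Category.assoc, he, hS]

end Groth.Agent.PunctCoh79
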