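import Groth.Prelude.Def_CohCx
import Groth.Prelude.Def_CohTop
import Groth.Agent.PunctCoh79.Flasque
import Groth.Agent.PunctCoh79.FastInst
import Groth.Agent.QCoh.HHExact
import Groth.Agent.SiteBase.Cohom
import Groth.Agent.S0452

/-!
# The long exact sequence of `M ↦ H^i(V, M~)`
-/

universe u

open CategoryTheory CategoryTheory.Limits AlgebraicGeometry TopologicalSpace Opposite
open CategoryTheory.Abelian

namespace Groth.Agent.PunctCoh79

variable (R : CommRingCat.{u})

/-- `M ↦ M~` as abelian sheaves -/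
noncomputable def abF : ModuleCat.{u} R ⥤ Sheaf (Opens.grothendieckTopology (Spec R)) AddCommGrpCat.{u} :=
  tilde.functor R ⋙ QCoh.toAbFunctor (Spec R)

instance abF_preservesFiniteLimits : PreservesFiniteLimits (abF R) := by
  unfold abF
  have : PreservesFiniteLimits (QCoh.toAbFunctor (Spec R)) :=
    (QCoh.toAbFunctor (Spec R)).preservesFiniteLimits_of_preservesHomology
  exact comp_preservesFiniteLimits _ _

instance abF_preservesFiniteColimits : PreservesFiniteColimits (abF R) := by
  unfold abF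
  have : PreservesFiniteColimits (QCoh.toAbFunctor (Spec R)) :=
    (QCoh.toAbFunctor (Spec R)).preservesFiniteColimits_of_preservesHomology
  exact comp_preservesFiniteColimits _ _

instance abF_additive : (abF R).Additive := Functor.additive_of_preserves_binary_products _

variable {R}
variable (V : (Spec R).Opens) (i : ℕ)

/-- `H^i(V, M~)` -/
noncomputable abbrev cohV (M : ModuleCat.{u} R) : Type u :=
  Ext.{u} (CohCx.freeSheaf (Opens.grothendieckTopology (Spec R)) V) ((abF R).obj M) i

/-- `H^i(V, φ~)` -/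
noncomputable def hMap {M N : ModuleCat.{u} R} (φ : M ⟶ N) : cohV V i M →+ cohV V i N :=
  (Ext.mk₀ ((abF R).map φ)).postcomp _ (add_zero i)

theorem hMap_apply {M N : ModuleCat.{u} R} (φ : M ⟶ N) (x : cohV V i M) :
    hMap V i φ x = x.comp (Ext.mk₀ ((abF R).map φ)) (add_zero i) := rfl

theorem hMap_comp {M N P : ModuleCat.{u} R} (φ : M ⟶ N) (ψ : N ⟶ P) (x : cohV V i M) :
    hMap V i (φ ≫ ψ) x = hMap V i ψ (hMap V i φ x) := by
  rw [hMap_apply, hMap_apply, hMap_apply, Functor.map_comp, ← Ext.mk₀_comp_mk₀,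
    ← Ext.comp_assoc_of_third_deg_zero]

theorem hMap_id {M : ModuleCat.{u} R} (x : cohV V i M) : hMap V i (𝟙 M) x = x := by
  rw [hMap_apply, CategoryTheory.Functor.map_id, Ext.comp_mk₀_id]

theorem hMap_add {M N : ModuleCat.{u} R} (φ ψ : M ⟶ N) (x : cohV V i M) :
    hMap V i (φ + ψ) x = hMap V i φ x + hMap V i ψ x := by
  rw [hMap_apply, hMap_apply, hMap_apply, Functor.map_add, Ext.mk₀_add, Ext.comp_add]

theorem hMap_zero {M N : ModuleCat.{u} R} (x : cohV V i M) : hMap V i (0 : M ⟶ N) x = 0 := by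
  rw [hMap_apply, Functor.map_zero, Ext.mk₀_zero, Ext.comp_zero]

variable {S : ShortComplex (ModuleCat.{u} R)} (hS : S.ShortExact)
include hS

/-- the connecting map -/
noncomputable def hδ {j : ℕ} (h : i + 1 = j) : cohV V i S.X₃ →+ cohV V j S.X₁ :=
  (hS.map_of_exact (abF R)).extClass.postcomp _ h

theorem hExact₂ (x : cohV V i S.X₂) : hMap V i S.g x = 0 ↔ ∃ y, hMap V i S.f y = x := by
  constructor
  · intro hx
    exact Ext.covariant_sequence_exact₂ _ (hS.map_of_exact (abF R)) x hx
  · rintro ⟨y, rfl⟩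
    rw [← hMap_comp, S.zero, hMap_zero]

theorem hExact₃ {j : ℕ} (h : i + 1 = j) (x : cohV V i S.X₃) :
    hδ V i hS h x = 0 ↔ ∃ y, hMap V i S.g y = x := by
  constructor
  · intro hx
    exact Ext.covariant_sequence_exact₃ _ (hS.map_of_exact (abF R)) x h hx
  · rintro ⟨y, rfl⟩
    change Ext.comp (Ext.comp y (Ext.mk₀ (S.map (abF R)).g) (add_zero i)) _ h = 0
    refine (Ext.comp_assoc _ _ _ (add_zero i) (zero_add 1) (by omega)).trans ?_
    refine (congrArg (fun t => Ext.comp y t h) (hS.map_of_exact (abF R)).comp_extClass).trans ?_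
    exact Ext.comp_zero y _ _ _ _

theorem hExact₁ {j : ℕ} (h : i + 1 = j) (x : cohV V j S.X₁) :
    hMap V j S.f x = 0 ↔ ∃ y, hδ V i hS h y = x := by
  constructor
  · intro hx
    exact Ext.covariant_sequence_exact₁ _ (hS.map_of_exact (abF R)) x hx h
  · rintro ⟨y, rfl⟩
    change Ext.comp (Ext.comp y _ h) (Ext.mk₀ (S.map (abF R)).f) (add_zero j) = 0
    refine (Ext.comp_assoc _ _ _ h (add_zero 1) (by omega)).trans ?_
    refine (congrArg (fun t => Ext.comp y t h) (hS.map_of_exact (abF R)).extClass_comp).trans ?_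
    exact Ext.comp_zero y _ _ _ _

theorem hδ_natural {S' : ShortComplex (ModuleCat.{u} R)} (hS' : S'.ShortExact) (φ : S ⟶ S') {j : ℕ}
    (h : i + 1 = j) (x : cohV V i S.X₃) :
    hMap V j φ.τ₁ (hδ V i hS h x) = hδ V i hS' h (hMap V i φ.τ₃ x) := by
  change Ext.comp (Ext.comp x _ h) (Ext.mk₀ ((abF R).mapShortComplex.map φ).τ₁) (add_zero j) =
    Ext.comp (Ext.comp x (Ext.mk₀ ((abF R).mapShortComplex.map φ).τ₃) (add_zero i)) _ h
  refine (Ext.comp_assoc _ _ _ h (add_zero 1) (by omega)).trans ?_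
  refine Eq.trans (congrArg (fun t => Ext.comp x t h)
    (ShortComplex.ShortExact.extClass_naturality (hS.map_of_exact (abF R)) (hS'.map_of_exact (abF R))
      ((abF R).mapShortComplex.map φ))) ?_
  exact (Ext.comp_assoc _ _ _ (add_zero i) (zero_add 1) (by omega)).symm

omit hS

/-- `H^0(V, M~) = Γ(V, M~)` -/
noncomputable def hZero (M : ModuleCat.{u} R) : cohV V 0 M ≃+ Γ(tilde M, V) :=
  SiteBase.huZero ((abF R).obj M) V

theorem hZero_hMap {M N : ModuleCat.{u} R} (φ : M ⟶ N) (x : cohV V 0 M) :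
    hZero V N (hMap V 0 φ x) = secTilde φ V (hZero V M x) := by
  obtain ⟨a, rfl⟩ := (Ext.mk₀_bijective _ _).2 x
  rw [hMap_apply, Ext.mk₀_comp_mk₀]
  refine (SiteBase.huZero_mk₀ ((abF R).obj N) V _).trans ?_
  refine Eq.trans ?_ (congrArg (secTilde φ V) (SiteBase.huZero_mk₀ ((abF R).obj M) V a).symm)
  exact SiteBase.secEquiv_comp V a ((abF R).map φ)

/-- `M → H^0(V, M~)` -/
noncomputable def hOf (M : ModuleCat.{u} R) : M →+ cohV V 0 M :=
  (hZero V M).symm.toAddMonoidHom.comp (secMap M V).toAddMonoidHom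

theorem hZero_hOf (M : ModuleCat.{u} R) (m : M) : hZero V M (hOf V M m) = secMap M V m :=
  (hZero V M).apply_symm_apply _

theorem hMap_hOf {M N : ModuleCat.{u} R} (φ : M ⟶ N) (m : M) :
    hMap V 0 φ (hOf V M m) = hOf V N (φ.hom m) := by
  apply (hZero V N).injective
  rw [hZero_hMap, hZero_hOf, hZero_hOf, secTilde_secMap]

include hS in
theorem hMap_zero_injective : Function.Injective (hMap V 0 S.f) := by
  have := hS.mono_f
  intro x y e
  apply (hZero V S.X₁).injective
  apply secTilde_injective S.f V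
  rw [← hZero_hMap, ← hZero_hMap, e]

theorem hOf_surjective_of_injective [IsNoetherianRing R] (M : ModuleCat.{u} R) [Injective M] :
    Function.Surjective (hOf V M) :=
  (hZero V M).symm.surjective.comp (secMap_surjective_of_injective M V)

theorem isFlasque_of_injective [IsNoetherianRing R] (M : ModuleCat.{u} R) [Injective M] :
    TopCat.Sheaf.IsFlasque (X := (Spec R).toTopCat) ((abF R).obj M) := by
  constructor
  intro U W j
  rw [AddCommGrpCat.epi_iff_surjective]
  intro z
  obtain ⟨m, rfl⟩ := secMap_surjective_of_injective M _ z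
  exact ⟨secMap M _ m, secRes_secMap _ _ m⟩

theorem subsingleton_cohV_of_injective [IsNoetherianRing R] (M : ModuleCat.{u} R) [Injective M] :
    Subsingleton (cohV V (i + 1) M) :=
  haveI := isFlasque_of_injective M
  S0452.result ((abF R).obj M) V i

end Groth.Agent.PunctCoh79
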